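import Mathlib

/-!
# S0978 (no simple group of order 5040), file F1 (helper1): arithmetic

Pure `ℕ`/`ℤ` facts used in the proof; see `notes/S0978_helper1.md`.
-/

set_option autoImplicit false

namespace Cfsg.Agent.O50

theorem o50_div16 (a : ℕ) (ha : a ∣ 16) : a = 1 ∨ a = 2 ∨ a = 4 ∨ a = 8 ∨ a = 16 := by
  have h1 : a ≤ 16 := Nat.le_of_dvd (by norm_num) ha
  interval_cases a <;> omega

theorem o50_div45 (a : ℕ) (ha : a ∣ 45) : a = 1 ∨ a = 3 ∨ a = 5 ∨ a = 9 ∨ a = 15 ∨ a = 45 := by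
  have h1 : a ≤ 45 := Nat.le_of_dvd (by norm_num) ha
  interval_cases a <;> omega

theorem o50_div720 (x : ℕ) (hx : x ∣ 720) :
    ∃ x1 x2 : ℕ, x = x1 * x2 ∧ (x1 = 1 ∨ x1 = 2 ∨ x1 = 4 ∨ x1 = 8 ∨ x1 = 16) ∧
      (x2 = 1 ∨ x2 = 3 ∨ x2 = 5 ∨ x2 = 9 ∨ x2 = 15 ∨ x2 = 45) := by
  have h : x ∣ 16 * 45 := by norm_num; exact hx
  obtain ⟨x1, x2, hx1, hx2, rfl⟩ := exists_dvd_and_dvd_of_dvd_mul h
  exact ⟨x1, x2, rfl, o50_div16 x1 hx1, o50_div45 x2 hx2⟩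

/-- the divisors of `720` that are `≡ 1 mod 7` -/
theorem o50_sylow_cands (d : ℕ) (hd : d ∣ 720) (h1 : d % 7 = 1) :
    d = 1 ∨ d = 8 ∨ d = 15 ∨ d = 36 ∨ d = 120 := by
  obtain ⟨x1, x2, rfl, h1', h2'⟩ := o50_div720 d hd
  rcases h1' with h | h | h | h | h <;> rcases h2' with h' | h' | h' | h' | h' | h' <;>
    subst h h' <;> omega

/-- `n = 1, 2` are not of the form `(h u p + u² + u + h)/(u + 1)` for `p = 7` -/
theorem o50_no_fform (n h u : ℕ) (hn : n = 1 ∨ n = 2) (hh : 0 < h) (hu : 0 < u) :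
    n * (u + 1) ≠ h * u * 7 + u ^ 2 + u + h := by
  intro heq
  have h1 : u ≤ h * u := Nat.le_mul_of_pos_left u hh
  have h2 : u ≤ u ^ 2 := by
    rw [pow_two]
    exact Nat.le_mul_of_pos_left u hu
  rcases hn with rfl | rfl <;> omega

/-- the signed degree `s * x` of a nontrivial member of the principal `7`-block: `x ∣ 720`,
`x ≡ s mod 7` -/
theorem o50_divX (x : ℕ) (hx : x ∣ 720) (h2 : 2 ≤ x) (s : ℤ) (hs : s = 1 ∨ s = -1)
    (hmod : (x : ℤ) ≡ s [ZMOD 7]) :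
    (s = 1 ∧ (x = 8 ∨ x = 15 ∨ x = 36 ∨ x = 120)) ∨
      (s = -1 ∧ (x = 6 ∨ x = 20 ∨ x = 48 ∨ x = 90 ∨ x = 720)) := by
  obtain ⟨x1, x2, rfl, h1, h2'⟩ := o50_div720 x hx
  rcases hs with rfl | rfl
  · left
    refine ⟨rfl, ?_⟩
    have hm : (((x1 * x2 : ℕ) : ℤ)) % 7 = 1 % 7 := hmod
    have hm' : (x1 * x2) % 7 = 1 := by omega
    rcases h1 with h | h | h | h | h <;> rcases h2' with h' | h' | h' | h' | h' | h' <;>
      subst h h' <;> omega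
  · right
    refine ⟨rfl, ?_⟩
    have hm : (((x1 * x2 : ℕ) : ℤ)) % 7 = (-1) % 7 := hmod
    have hm' : (x1 * x2) % 7 = 6 := by omega
    rcases h1 with h | h | h | h | h <;> rcases h2' with h' | h' | h' | h' | h' | h' <;>
      subst h h' <;> omega

/-- **the case `n₇ = 36`, `e = 2`**: `X = {1, χ}`, `χ(1) = f ∣ 72`, `θ(1) = y ∣ 72`, and the value
`m = χ(u)` at an involution `u` of `C(P)` -/
theorem o50_case36 (f y : ℕ) (s ε : ℤ) (hs : s = 1 ∨ s = -1) (hε : ε = 1 ∨ ε = -1)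
    (hf : f ∣ 72) (hf2 : 2 ≤ f) (hfmod : (f : ℤ) ≡ s [ZMOD 7]) (hy : y ∣ 72)
    (heq : ε * (y : ℤ) = 1 + s * (f : ℤ))
    (m : ℤ) (hm7 : m ≡ s [ZMOD 7]) (hm4 : m ≡ (f : ℤ) [ZMOD 4]) (hmabs : |m| ≤ (f : ℤ))
    (hmne : m ≠ (f : ℤ)) : False := by
  have hf720 : f ∣ 720 := hf.trans ⟨10, by norm_num⟩
  have hm7' : m % 7 = s % 7 := hm7
  have hm4' : m % 4 = (f : ℤ) % 4 := hm4
  rw [abs_le] at hmabs
  rcases o50_divX f hf720 hf2 s hs hfmod with ⟨rfl, h | h | h | h⟩ | ⟨rfl, h | h | h | h | h⟩ <;>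
    subst h
  · -- f = 8
    omega
  · norm_num at hf
  · -- f = 36: y = 37
    rcases hε with rfl | rfl
    · have : y = 37 := by omega
      subst this
      norm_num at hy
    · omega
  · norm_num at hf
  · -- f = 6: y = 5
    rcases hε with rfl | rfl
    · omega
    · have : y = 5 := by omega
      subst this
      norm_num at hy
  · norm_num at hf
  · norm_num at hf
  · norm_num at hf
  · norm_num at hf

/-- the possible signed degrees in the case `e = 3` once the value at the involution is known -/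
theorem o50_case3_X (f : ℕ) (s : ℤ) (hs : s = 1 ∨ s = -1) (hf : f ∣ 360) (hf2 : 2 ≤ f)
    (hfmod : (f : ℤ) ≡ s [ZMOD 7])
    (m : ℤ) (hm7 : m ≡ s [ZMOD 7]) (hm4 : m ≡ (f : ℤ) [ZMOD 4]) (hmabs : |m| ≤ (f : ℤ))
    (hmne : m ≠ (f : ℤ)) :
    (s = 1 ∧ (f = 15 ∨ f = 36 ∨ f = 120)) ∨ (s = -1 ∧ (f = 20 ∨ f = 90)) := by
  have hf720 : f ∣ 720 := hf.trans ⟨2, by norm_num⟩
  have hm7' : m % 7 = s % 7 := hm7
  have hm4' : m % 4 = (f : ℤ) % 4 := hm4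
  rw [abs_le] at hmabs
  rcases o50_divX f hf720 hf2 s hs hfmod with ⟨rfl, h | h | h | h⟩ | ⟨rfl, h | h | h | h | h⟩ <;>
    subst h
  · omega
  · exact Or.inl ⟨rfl, Or.inl rfl⟩
  · exact Or.inl ⟨rfl, Or.inr (Or.inl rfl)⟩
  · exact Or.inl ⟨rfl, Or.inr (Or.inr rfl)⟩
  · omega
  · exact Or.inr ⟨rfl, Or.inl rfl⟩
  · norm_num at hf
  · exact Or.inr ⟨rfl, Or.inr rfl⟩
  · norm_num at hf

/-- **the case `n₇ = 120`, `e = 3`** -/
theorem o50_case3 (f1 f2 y : ℕ) (s1 s2 ε : ℤ) (hs1 : s1 = 1 ∨ s1 = -1) (hs2 : s2 = 1 ∨ s2 = -1)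
    (hε : ε = 1 ∨ ε = -1)
    (hf1 : f1 ∣ 360) (hf12 : 2 ≤ f1) (hf1mod : (f1 : ℤ) ≡ s1 [ZMOD 7])
    (hf2 : f2 ∣ 360) (hf22 : 2 ≤ f2) (hf2mod : (f2 : ℤ) ≡ s2 [ZMOD 7])
    (hy : y ∣ 360)
    (heq : ε * (y : ℤ) = 1 + s1 * (f1 : ℤ) + s2 * (f2 : ℤ))
    (m1 m2 mθ : ℤ)
    (hm17 : m1 ≡ s1 [ZMOD 7]) (hm14 : m1 ≡ (f1 : ℤ) [ZMOD 4]) (hm1abs : |m1| ≤ (f1 : ℤ))
    (hm1ne : m1 ≠ (f1 : ℤ))
    (hm27 : m2 ≡ s2 [ZMOD 7]) (hm24 : m2 ≡ (f2 : ℤ) [ZMOD 4]) (hm2abs : |m2| ≤ (f2 : ℤ))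
    (hm2ne : m2 ≠ (f2 : ℤ))
    (hθ : ε * mθ = 1 + s1 * m1 + s2 * m2) (hθne : mθ ≠ (y : ℤ)) : False := by
  have h1 := o50_case3_X f1 s1 hs1 hf1 hf12 hf1mod m1 hm17 hm14 hm1abs hm1ne
  have h2 := o50_case3_X f2 s2 hs2 hf2 hf22 hf2mod m2 hm27 hm24 hm2abs hm2ne
  have hm17' : m1 % 7 = s1 % 7 := hm17
  have hm14' : m1 % 4 = (f1 : ℤ) % 4 := hm14
  have hm27' : m2 % 7 = s2 % 7 := hm27
  have hm24' : m2 % 4 = (f2 : ℤ) % 4 := hm24
  rw [abs_le] at hm1abs hm2abs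
  have key : ∀ k : ℕ, y = k → ¬ k ∣ 360 → False := fun k hk hnk => hnk (hk ▸ hy)
  rcases h1 with ⟨rfl, h | h | h⟩ | ⟨rfl, h | h⟩ <;> subst h <;>
  rcases h2 with ⟨rfl, h' | h' | h'⟩ | ⟨rfl, h' | h'⟩ <;> subst h' <;>
  rcases hε with rfl | rfl <;>
  first
    | omega
    | exact key 31 (by omega) (by norm_num)
    | exact key 52 (by omega) (by norm_num)
    | exact key 136 (by omega) (by norm_num)
    | exact key 74 (by omega) (by norm_num)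
    | exact key 73 (by omega) (by norm_num)
    | exact key 157 (by omega) (by norm_num)
    | exact key 17 (by omega) (by norm_num)
    | exact key 53 (by omega) (by norm_num)
    | exact key 241 (by omega) (by norm_num)
    | exact key 101 (by omega) (by norm_num)
    | exact key 39 (by omega) (by norm_num)
    | exact key 109 (by omega) (by norm_num)
    | exact key 179 (by omega) (by norm_num)

/-- **the case `n₇ = 120`, `e = 2`** (fixed points of an element `z` of order `3` of `C(P)` on the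
`120` Sylow subgroups): `c = |C(z)|`, `m = |z^G ∩ N|`, `f = |Fix(z)|` -/
theorem o50_case2 (f m c : ℕ) (hf3 : f % 3 = 0) (hf7 : f % 7 = 1) (hf : f ≤ 120)
    (hm : m = 1 ∨ m = 2) (hc : c * m = 42 * f) (hc63 : 63 ∣ c) (hcd : c ∣ 5040) :
    c = 630 ∨ (c = 315 ∧ m = 2) ∨ c = 2520 ∨ c = 5040 := by
  have hfl : f = 15 ∨ f = 36 ∨ f = 57 ∨ f = 78 ∨ f = 99 ∨ f = 120 := by omega
  have key : ∀ k : ℕ, c = k → ¬ k ∣ 5040 → False := fun k hk hnk => hnk (hk ▸ hcd)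
  have key' : ∀ k : ℕ, c = k → ¬ 63 ∣ k → False := fun k hk hnk => hnk (hk ▸ hc63)
  rcases hfl with rfl | rfl | rfl | rfl | rfl | rfl <;> rcases hm with rfl | rfl
  · left; omega
  · right; left; exact ⟨by omega, rfl⟩
  · exact (key 1512 (by omega) (by norm_num)).elim
  · exact (key 756 (by omega) (by norm_num)).elim
  · exact (key 2394 (by omega) (by norm_num)).elim
  · exact (key 1197 (by omega) (by norm_num)).elim
  · exact (key 3276 (by omega) (by norm_num)).elim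
  · exact (key 1638 (by omega) (by norm_num)).elim
  · exact (key 4158 (by omega) (by norm_num)).elim
  · exact (key 2079 (by omega) (by norm_num)).elim
  · right; right; right; omega
  · right; right; left; omega

end Cfsg.Agent.O50
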