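import Mathlib

/-!
# S0978 (no simple group of order 5040), file F7b: arithmetic of the main case `N(P) = 7:6`

Pure `ℤ`/`ℚ` arithmetic; see `notes/S0978_helper1.md` section 3c and `notes/S0978_check_lead.md`.
-/

set_option autoImplicit false

namespace Cfsg.Agent.O50

/-- the ten types `(s, w) = (δ f, δ χ(t))` of a nontrivial character of the principal 7-block -/
def o50_IsType (s w : ℤ) : Prop :=
  (s = 8 ∧ w = 0) ∨ (s = 15 ∧ w = -1) ∨ (s = 15 ∧ w = 3) ∨ (s = 36 ∧ w = -4) ∨ (s = 36 ∧ w = 0) ∨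
    (s = 36 ∧ w = 4) ∨ (s = -20 ∧ w = 0) ∨ (s = -48 ∧ w = -4) ∨ (s = -48 ∧ w = 0) ∨
    (s = -48 ∧ w = 4)

theorem o50_type (f : ℕ) (δ v : ℤ) (hδ : δ = 1 ∨ δ = -1) (hf : f ∣ 720) (hf2 : 2 ≤ f)
    (hmod : (f : ℤ) ≡ δ [ZMOD 7]) (hsq : f * f ≤ 5039) (hv4 : v ≡ (f : ℤ) [ZMOD 4])
    (α β : ℕ) (hα : 14 * (α : ℤ) = (f : ℤ) + 6 * δ + 7 * v)
    (hβ : 14 * (β : ℤ) = (f : ℤ) + 6 * δ - 7 * v) :
    o50_IsType (δ * f) (δ * v) := by
  have hf70 : f ≤ 70 := by nlinarith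
  unfold Int.ModEq at hmod hv4
  unfold o50_IsType
  rcases hδ with rfl | rfl
  · interval_cases f <;> omega
  · interval_cases f <;> omega

/-- the `s`-values of the ten types -/
def o50_am_sT : Fin 10 → ℤ := ![8, 15, 15, 36, 36, 36, -20, -48, -48, -48]

/-- the `w`-values of the ten types -/
def o50_am_wT : Fin 10 → ℤ := ![0, -1, 3, -4, 0, 4, 0, -4, 0, 4]

/-- the values `5040 w²/s` of the ten types -/
def o50_am_kT : Fin 10 → ℤ := ![0, 336, 3024, 2240, 0, 2240, 0, -1680, 0, -1680]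

theorem o50_am_index (s w : ℤ) (h : o50_IsType s w) :
    ∃ j : Fin 10, s = o50_am_sT j ∧ w = o50_am_wT j := by
  rcases h with h | h | h | h | h | h | h | h | h | h
  · exact ⟨0, h.1, h.2⟩
  · exact ⟨1, h.1, h.2⟩
  · exact ⟨2, h.1, h.2⟩
  · exact ⟨3, h.1, h.2⟩
  · exact ⟨4, h.1, h.2⟩
  · exact ⟨5, h.1, h.2⟩
  · exact ⟨6, h.1, h.2⟩
  · exact ⟨7, h.1, h.2⟩
  · exact ⟨8, h.1, h.2⟩
  · exact ⟨9, h.1, h.2⟩

theorem o50_am_k (j : Fin 10) :
    5040 * ((o50_am_wT j : ℚ) * (o50_am_wT j : ℚ) / (o50_am_sT j : ℚ)) = (o50_am_kT j : ℚ) := by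
  fin_cases j <;> norm_num [o50_am_sT, o50_am_wT, o50_am_kT]

/-- a sum over `T` of a function of the type index, by fibres -/
theorem o50_am_sum {ι : Type*} (T : Finset ι) (τ : ι → Fin 10) (F : Fin 10 → ℤ) :
    ∑ i ∈ T, F (τ i) = ∑ j : Fin 10, ((T.filter (fun i => τ i = j)).card : ℤ) * F j := by
  rw [← Finset.sum_fiberwise' T τ F]
  refine Finset.sum_congr rfl (fun j _ => ?_)
  rw [Finset.sum_const, nsmul_eq_mul]

/-- the final number-theoretic step -/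
theorem o50_am_square (N c : ℕ) (K : ℤ) (hN : N ≤ 7)
    (hK : K = 5376 ∨ K = 5936 ∨ K = 6384 ∨ K = 10304)
    (h : (N : ℤ) * ((c : ℤ) * (c : ℤ)) = K) : False := by
  have hKle : K ≤ 10304 := by omega
  have hKpos : 0 < K := by omega
  have hN1 : 1 ≤ N := by
    rcases Nat.eq_zero_or_pos N with h0 | h0
    · rw [h0] at h
      simp at h
      omega
    · exact h0
  have hc : c ≤ 101 := by
    by_contra hcon
    rw [not_le] at hcon
    have h1 : (102 : ℤ) ≤ c := by exact_mod_cast hcon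
    have h2 : (1 : ℤ) ≤ N := by exact_mod_cast hN1
    nlinarith
  interval_cases N <;> interval_cases c <;> omega

/-- six nontrivial characters of ten types with `∑ s = -1`, `∑ w = -1`, `∑ s² ≤ 5039`: then
`720 (1 + ∑ w²/s) ∈ {768, 848, 912, 1472}` and `N c² = 7 K` with `N ≤ 7` is impossible -/
theorem o50_main_arith {ι : Type*} (T : Finset ι) (s w : ι → ℤ) (hT : T.card = 6)
    (htype : ∀ i ∈ T, o50_IsType (s i) (w i))
    (h1 : ∑ i ∈ T, s i = -1) (h2 : ∑ i ∈ T, w i = -1) (h3 : ∑ i ∈ T, s i * s i ≤ 5039)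
    (N c : ℕ) (hN : N ≤ 7)
    (hK : (N : ℚ) * ((c : ℚ) * (c : ℚ)) =
      5040 * (1 + ∑ i ∈ T, (w i : ℚ) * (w i : ℚ) / (s i : ℚ))) : False := by
  classical
  have hex : ∀ i : ι, ∃ j : Fin 10, i ∈ T → (s i = o50_am_sT j ∧ w i = o50_am_wT j) := by
    intro i
    by_cases hi : i ∈ T
    · obtain ⟨j, hj⟩ := o50_am_index _ _ (htype i hi)
      exact ⟨j, fun _ => hj⟩
    · exact ⟨0, fun h => absurd h hi⟩
  choose τ hτ using hex
  obtain ⟨n, hn⟩ : ∃ n : Fin 10 → ℕ, ∀ j, n j = (T.filter (fun i => τ i = j)).card :=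
    ⟨_, fun _ => rfl⟩
  have hsum : ∀ F : Fin 10 → ℤ, ∑ i ∈ T, F (τ i) = ∑ j : Fin 10, (n j : ℤ) * F j := by
    intro F
    rw [o50_am_sum T τ F]
    exact Finset.sum_congr rfl (fun j _ => by rw [hn j])
  have e1 : ∑ i ∈ T, s i = ∑ j : Fin 10, (n j : ℤ) * o50_am_sT j := by
    rw [← hsum o50_am_sT]
    exact Finset.sum_congr rfl (fun i hi => (hτ i hi).1)
  have e2 : ∑ i ∈ T, w i = ∑ j : Fin 10, (n j : ℤ) * o50_am_wT j := by
    rw [← hsum o50_am_wT]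
    exact Finset.sum_congr rfl (fun i hi => (hτ i hi).2)
  have e3 : ∑ i ∈ T, s i * s i = ∑ j : Fin 10, (n j : ℤ) * (o50_am_sT j * o50_am_sT j) := by
    rw [← hsum (fun j => o50_am_sT j * o50_am_sT j)]
    exact Finset.sum_congr rfl (fun i hi => by rw [(hτ i hi).1])
  have e0 : (6 : ℤ) = ∑ j : Fin 10, (n j : ℤ) * 1 := by
    rw [← hsum (fun _ => 1)]
    simp [hT]
  have e4 : (5040 : ℚ) * (1 + ∑ i ∈ T, (w i : ℚ) * (w i : ℚ) / (s i : ℚ)) =
      ((5040 + ∑ j : Fin 10, (n j : ℤ) * o50_am_kT j : ℤ) : ℚ) := by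
    rw [← hsum o50_am_kT]
    push_cast
    rw [mul_add, mul_one, Finset.mul_sum]
    congr 1
    refine Finset.sum_congr rfl (fun i hi => ?_)
    rw [(hτ i hi).1, (hτ i hi).2]
    exact o50_am_k (τ i)
  rw [e4] at hK
  have hK' : (N : ℤ) * ((c : ℤ) * (c : ℤ)) = 5040 + ∑ j : Fin 10, (n j : ℤ) * o50_am_kT j := by
    exact_mod_cast hK
  rw [e1] at h1
  rw [e2] at h2
  rw [e3] at h3
  simp only [Fin.sum_univ_succ, Fin.sum_univ_zero, o50_am_sT, o50_am_wT, o50_am_kT] at h1 h2 h3 e0 hK'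
  simp at h1 h2 h3 e0 hK'
  apply o50_am_square N c _ hN ?_ hK'
  have b7 : n 7 ≤ 2 := by omega
  have b8 : n 8 ≤ 2 := by omega
  have b9 : n 9 ≤ 2 := by omega
  have b3 : n 3 ≤ 3 := by omega
  have b4 : n 4 ≤ 3 := by omega
  have b5 : n 5 ≤ 3 := by omega
  generalize n 0 = a0 at *
  generalize n 1 = a1 at *
  generalize n 2 = a2 at *
  generalize n 3 = a3 at *
  generalize n 4 = a4 at *
  generalize n 5 = a5 at *
  generalize n 6 = a6 at *
  generalize n 7 = a7 at *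
  generalize n 8 = a8 at *
  generalize n 9 = a9 at *
  have hm : a1 + a2 = 1 ∨ a1 + a2 = 5 := by omega
  rcases hm with hm | hm
  · have b1 : a1 ≤ 1 := by omega
    interval_cases a1 <;> interval_cases a7 <;> interval_cases a8 <;> interval_cases a9 <;> omega
  · omega

end Cfsg.Agent.O50
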