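import Mathlib
import Cfsg.Prelude.Def_Characters
import Cfsg.Prelude.Def_Blocks
import Cfsg.Agent.BR.BlockC
import Cfsg.Agent.Helper6.ColumnOrth

/-!
# S0978 (no simple group of order 5040), file F7c (helper1): block relations

Consequences of `br_blk_IsData` (BR/Block.lean) used in the main case `N(P) = 7:6`:
* `o50_blk_rel` : for `g` not conjugate to an element of `P ∖ 1` with integer character values
  `w χ`: `∑_{χ ∈ X} w χ · dl χ = ep · w ψ`;
* `o50_blk_valY` : if `|Y| = 1` then `ψ(x) = - ep` for `1 ≠ x ∈ P`.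
-/

set_option autoImplicit false
set_option linter.style.haveILetI false

namespace Cfsg.Agent.O50

open Cfsg Cfsg.Agent.Helper6 Cfsg.Agent.BR
open scoped ComplexConjugate

universe u

variable {G : Type u} [Group G] {p : ℕ} [hp : Fact p.Prime] {P : Sylow p G}
  {X Y : Set (Cfsg.IrrCharacter G)} {dl : Cfsg.IrrCharacter G → ℤ} {ep : ℤ}
  {O : Cfsg.IrrCharacter G → Finset (↥(P : Subgroup G) →* ℂˣ)}

/-- the block relation at an element `g` not conjugate to an element of `P ∖ 1`, for integer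
values -/
theorem o50_blk_rel [Finite G] [Fintype (Cfsg.IrrCharacter G)]
    (h : br_blk_IsData P X Y dl ep O) (g : G)
    (hg : ∀ x : G, x ∈ (P : Subgroup G) → x ≠ 1 → ¬ IsConj x g)
    (w : Cfsg.IrrCharacter G → ℤ) (hw : ∀ χ : Cfsg.IrrCharacter G, (χ : G → ℂ) g = (w χ : ℂ))
    (ψ : Cfsg.IrrCharacter G) (hψ : ψ ∈ Y) :
    ∑ χ ∈ (Set.toFinite X).toFinset, w χ * dl χ = ep * w ψ := by
  classical
  haveI : Fintype G := Fintype.ofFinite G
  have hm : ∀ x : G, x ∈ (P : Subgroup G) → x ≠ 1 →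
      ∑ χ : Cfsg.IrrCharacter G, ((w χ : ℂ)) * (χ : G → ℂ) x = 0 := by
    intro x hx hx1
    have h1 := column_orthogonality_aux (G := G) x g
    rw [if_neg (hg x hx hx1)] at h1
    rw [← h1]
    apply Finset.sum_congr rfl
    intro χ _
    rw [hw χ, map_intCast, mul_comm]
  obtain ⟨m', hm', hsum⟩ := br_blk_indep h (fun χ => (w χ : ℂ)) 0 hm
  rw [finsum_mem_eq_finite_toFinset_sum _ (Set.toFinite X), ← hm' ψ hψ] at hsum
  have h2 : ((∑ χ ∈ (Set.toFinite X).toFinset, w χ * dl χ : ℤ) : ℂ) = ((ep * w ψ : ℤ) : ℂ) := by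
    push_cast
    linear_combination hsum
  exact_mod_cast h2

/-- if `Y` has one member `ψ` then `ψ(x) = - ep` on `P ∖ 1` -/
theorem o50_blk_valY [Finite G] (h : br_blk_IsData P X Y dl ep O) (hY : Nat.card Y = 1)
    (ψ : Cfsg.IrrCharacter G) (hψ : ψ ∈ Y) (x : G) (hx : x ∈ (P : Subgroup G)) (hx1 : x ≠ 1) :
    (ψ : G → ℂ) x = -(ep : ℂ) := by
  have hYs : Y = {ψ} := by
    rw [Set.eq_singleton_iff_unique_mem]
    refine ⟨hψ, fun ψ' hψ' => ?_⟩
    obtain ⟨hsub, -⟩ := Nat.card_eq_one_iff_unique.mp hY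
    have := hsub.elim ⟨ψ', hψ'⟩ ⟨ψ, hψ⟩
    exact congrArg Subtype.val this
  have h1 := br_blk_sum_over_Y h ⟨x, hx⟩ (fun hh => hx1 (congrArg Subtype.val hh))
  rw [hYs, finsum_mem_singleton] at h1
  exact h1

end Cfsg.Agent.O50
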