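import Mathlib
import Cfsg.Agent.S0991

/-!
# S0978, file F2 (helper4): a simple group of order 5040 has no proper subgroup of index ≤ 8

The embedding theorem (S0991) puts `G` into `A_k`, `k` the index; for `k ≤ 7` the order `k!/2` is
too small, and for `k = 8` the image has index `4` in the simple group `A_8`, which would then
embed into `A_4`.
-/

set_option autoImplicit false

namespace Cfsg.Agent.O50

open Equiv

/-- a simple group of order 5040 is not commutative -/
theorem o50_not_comm {G : Type*} [Group G] [Finite G] [IsSimpleGroup G]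
    (hG : Nat.card G = 5040) : ¬ IsMulCommutative G := by
  intro hc
  let _ : CommGroup G := { (inferInstance : Group G) with mul_comm := hc.is_comm.comm }
  have hp : (Nat.card G).Prime := IsSimpleGroup.prime_card
  rw [hG] at hp
  norm_num at hp

/-- an injective homomorphism into `A_k` bounds the order -/
theorem o50_card_dvd_alt {G : Type*} [Group G] [Finite G] (k : ℕ)
    (f : G →* ↥(alternatingGroup (Fin k))) (hf : Function.Injective f) :
    Nat.card G ∣ Nat.card ↥(alternatingGroup (Fin k)) := by
  have h1 : Nat.card G = Nat.card f.range :=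
    Nat.card_congr (MonoidHom.ofInjective hf).toEquiv
  rw [h1]
  exact Subgroup.card_subgroup_dvd_card _

theorem o50_card_alt (k : ℕ) (hk : 2 ≤ k) :
    Nat.card ↥(alternatingGroup (Fin k)) = k.factorial / 2 := by
  have : Nontrivial (Fin k) := Fin.nontrivial_iff_two_le.mpr hk
  rw [nat_card_alternatingGroup, Nat.card_eq_fintype_card, Fintype.card_fin]

/-- **index lemma** -/
theorem o50_no_small_index {G : Type*} [Group G] [Finite G] [IsSimpleGroup G]
    (hG : Nat.card G = 5040) (H : Subgroup G) (hH : H ≠ ⊤) : 8 < H.index := by
  by_contra hle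
  push Not at hle
  have hna := o50_not_comm hG
  obtain ⟨f, hf⟩ := Cfsg.Agent.S0991.result hna H hH
  have hk1 : H.index ≠ 1 := fun h => hH (Subgroup.index_eq_one.mp h)
  have hk0 : H.index ≠ 0 := Subgroup.index_ne_zero_of_finite
  generalize H.index = k at f hf hk1 hk0 hle
  have hk2 : 2 ≤ k := by omega
  have hdvd := o50_card_dvd_alt k f hf
  rw [hG, o50_card_alt k hk2] at hdvd
  -- the cases `k ≤ 7`
  have hk8 : k = 8 := by
    by_contra hne
    have hk7 : k ≤ 7 := by omega
    have hle' : k.factorial / 2 ≤ 2520 := by
      have : k.factorial ≤ (7 : ℕ).factorial := Nat.factorial_le hk7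
      have h7 : (7 : ℕ).factorial = 5040 := by decide
      omega
    have hpos : 0 < k.factorial / 2 := by
      have : (2 : ℕ).factorial ≤ k.factorial := Nat.factorial_le hk2
      have h2 : (2 : ℕ).factorial = 2 := by decide
      omega
    have := Nat.le_of_dvd hpos hdvd
    omega
  subst hk8
  -- `k = 8`: the image has index 4 in the simple group `A_8`
  have hA8 : Nat.card ↥(alternatingGroup (Fin 8)) = 20160 := by
    rw [o50_card_alt 8 (by norm_num)]; decide
  have hr : Nat.card f.range = 5040 := by
    rw [← hG]
    exact (Nat.card_congr (MonoidHom.ofInjective hf).toEquiv).symm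
  have hidx : f.range.index = 4 := by
    have := Subgroup.index_mul_card f.range
    rw [hr, hA8] at this
    omega
  have hne : f.range ≠ ⊤ := by
    intro h
    rw [h, Subgroup.index_top] at hidx
    omega
  have : IsSimpleGroup ↥(alternatingGroup (Fin 8)) :=
    alternatingGroup.isSimpleGroup (by rw [Nat.card_eq_fintype_card, Fintype.card_fin]; norm_num)
  have hna8 : ¬ IsMulCommutative ↥(alternatingGroup (Fin 8)) := by
    rw [alternatingGroup.isMulCommutative_iff_card_le_three, Nat.card_eq_fintype_card,
      Fintype.card_fin]
    norm_num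
  obtain ⟨g, hg⟩ := Cfsg.Agent.S0991.result hna8 f.range hne
  generalize f.range.index = j at g hg hidx
  subst hidx
  have hd := o50_card_dvd_alt 4 g hg
  rw [hA8, o50_card_alt 4 (by norm_num)] at hd
  have h4 : (4 : ℕ).factorial / 2 = 12 := by decide
  rw [h4] at hd
  omega

end Cfsg.Agent.O50
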