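import Mathlib
import Cfsg.Agent.O50.Idx
import Cfsg.Agent.S1018
import Cfsg.Agent.S1019
import Cfsg.Agent.Helper9.InvAut.BF

/-!
# S0978, file F6 (helper4): the case `|N_G(P)| = 42`, `|C_G(P)| = 21` for a Sylow 7-subgroup `P`
of a simple group of order 5040 does not occur

`z ∈ C_G(P)` of order 3; `f` the number of fixed points of `z` on the 120 cosets of `N_G(P)`:
`f ≡ 0 (3)`, `f ≡ 1 (7)`, `f |z^G| = 120 m` with `m ∈ {1, 2}`, `63 ∣ |C_G(z)|`: the centralizer
(or the normalizer of `⟨z⟩`) is a proper subgroup of index at most 8, or `z` is central.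
-/

set_option autoImplicit false
set_option linter.style.haveILetI false

namespace Cfsg.Agent.O50

open MulAction

/-- the `p`-part in a factorization -/
theorem o50_factorization_aux (p k r : ℕ) (hp : p.Prime) (hr : ¬ p ∣ r) (hr0 : r ≠ 0) :
    (p ^ k * r).factorization p = k := by
  rw [Nat.factorization_mul (pow_ne_zero _ hp.ne_zero) hr0, Nat.Prime.factorization_pow hp]
  simp [Nat.factorization_eq_zero_of_not_dvd hr]

/-- fixed points of a `p`-subgroup on an invariant set -/
theorem o50_fix_modEq {G Ω : Type*} [Group G] [MulAction G Ω] [Finite Ω] (p : ℕ)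
    [Fact p.Prime] (K : Subgroup G) (hK : IsPGroup p K) (S : Set Ω)
    (hS : ∀ k ∈ K, ∀ ω ∈ S, k • ω ∈ S) :
    Nat.card S ≡ Nat.card {ω : Ω // ω ∈ S ∧ ∀ k ∈ K, k • ω = ω} [MOD p] := by
  let T : SubMulAction K Ω :=
    { carrier := S
      smul_mem' := fun k ω hω => hS k.1 k.2 ω hω }
  have h1 := hK.card_modEq_card_fixedPoints (↥T)
  have e : fixedPoints K T ≃ {ω : Ω // ω ∈ S ∧ ∀ k ∈ K, k • ω = ω} :=
    { toFun := fun t => ⟨(t.1 : Ω), t.1.2, fun k hk => by
        have := t.2 ⟨k, hk⟩
        exact congrArg Subtype.val this⟩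
      invFun := fun ω => ⟨⟨ω.1, ω.2.1⟩, fun k => Subtype.ext (ω.2.2 k.1 k.2)⟩
      left_inv := fun t => rfl
      right_inv := fun ω => rfl }
  rw [Nat.card_congr e] at h1
  exact h1

section setup

variable {G : Type*} [Group G] [Finite G]

theorem o50_e2_cardP (hG : Nat.card G = 5040) (P : Sylow 7 G) :
    Nat.card ↥(P : Subgroup G) = 7 := by
  haveI : Fact (Nat.Prime 7) := ⟨by norm_num⟩
  rw [P.card_eq_multiplicity, hG]
  have h : (5040 : ℕ) = 7 ^ 1 * 720 := by norm_num
  rw [h, o50_factorization_aux 7 1 720 (by norm_num) (by norm_num) (by norm_num)]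
  norm_num

theorem o50_e2_cardQ (hG : Nat.card G = 5040) (Q : Sylow 3 G) :
    Nat.card ↥(Q : Subgroup G) = 9 := by
  haveI : Fact (Nat.Prime 3) := ⟨by norm_num⟩
  rw [Q.card_eq_multiplicity, hG]
  have h : (5040 : ℕ) = 3 ^ 2 * 560 := by norm_num
  rw [h, o50_factorization_aux 3 2 560 (by norm_num) (by norm_num) (by norm_num)]
  norm_num

/-- a subgroup of order 21 with a central subgroup of order 7 is commutative -/
theorem o50_e2_comm21 (C P : Subgroup G) (hPC : P ≤ C) (hC : Nat.card C = 21)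
    (hP : Nat.card P = 7) (hcen : ∀ a ∈ P, ∀ b ∈ C, a * b = b * a) :
    ∀ a ∈ C, ∀ b ∈ C, a * b = b * a := by
  haveI : Fact (Nat.Prime 3) := ⟨by norm_num⟩
  have hle : P.subgroupOf C ≤ Subgroup.center ↥C := by
    intro a ha
    rw [Subgroup.mem_center_iff]
    intro b
    apply Subtype.ext
    have := hcen a.1 (Subgroup.mem_subgroupOf.mp ha) b.1 b.2
    simpa using this.symm
  have hcardP' : Nat.card (P.subgroupOf C) = 7 := by
    rw [Nat.card_congr (Subgroup.subgroupOfEquivOfLe hPC).toEquiv, hP]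
  have hidxP' : (P.subgroupOf C).index = 3 := by
    have := Subgroup.index_mul_card (P.subgroupOf C)
    rw [hcardP', hC] at this
    omega
  have hdvd : (Subgroup.center ↥C).index ∣ 3 := by
    rw [← hidxP']; exact Subgroup.index_dvd_of_le hle
  have hcyc : IsCyclic (↥C ⧸ Subgroup.center ↥C) := by
    have h3 : Nat.card (↥C ⧸ Subgroup.center ↥C) = (Subgroup.center ↥C).index := rfl
    rcases (Nat.dvd_prime (by norm_num : Nat.Prime 3)).mp hdvd with h1 | h1
    · have : Subsingleton (↥C ⧸ Subgroup.center ↥C) := by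
        rw [← Finite.card_le_one_iff_subsingleton, h3, h1]
      infer_instance
    · exact isCyclic_of_prime_card (p := 3) (by rw [h3, h1])
  have hcomm : IsMulCommutative ↥C :=
    MonoidHom.isMulCommutative_of_isCyclic_of_ker_le_center
      (QuotientGroup.mk' (Subgroup.center ↥C)) (by rw [QuotientGroup.ker_mk'])
  intro a ha b hb
  have := hcomm.is_comm.comm ⟨a, ha⟩ ⟨b, hb⟩
  exact congrArg Subtype.val this

/-- in a commutative subgroup of order 21 at most 3 elements have cube 1 -/
theorem o50_e2_cube (C : Subgroup G) (hC : Nat.card C = 21)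
    (hcomm : ∀ a ∈ C, ∀ b ∈ C, a * b = b * a) :
    Nat.card {g : G // g ∈ C ∧ g ^ 3 = 1} ≤ 3 := by
  haveI : Fact (Nat.Prime 3) := ⟨by norm_num⟩
  letI : CommGroup ↥C :=
    { (inferInstance : Group ↥C) with
      mul_comm := fun a b => Subtype.ext (hcomm a.1 a.2 b.1 b.2) }
  let T : Subgroup ↥C := (powMonoidHom 3 : ↥C →* ↥C).ker
  have e : {g : G // g ∈ C ∧ g ^ 3 = 1} ≃ T :=
    { toFun := fun g => ⟨⟨g.1, g.2.1⟩, by
        rw [MonoidHom.mem_ker, powMonoidHom_apply]
        exact Subtype.ext g.2.2⟩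
      invFun := fun t => ⟨t.1.1, t.1.2, by
        have := t.2
        rw [MonoidHom.mem_ker, powMonoidHom_apply] at this
        exact congrArg Subtype.val this⟩
      left_inv := fun g => rfl
      right_inv := fun t => rfl }
  rw [Nat.card_congr e]
  have hT3 : IsPGroup 3 T := by
    intro t
    refine ⟨1, ?_⟩
    have := t.2
    rw [MonoidHom.mem_ker, powMonoidHom_apply] at this
    apply Subtype.ext
    simpa using this
  obtain ⟨n, hn⟩ := (IsPGroup.iff_card).mp hT3
  have hdvd : Nat.card T ∣ 21 := by rw [← hC]; exact Subgroup.card_subgroup_dvd_card T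
  rw [hn] at hdvd ⊢
  have hn1 : n ≤ 1 := by
    by_contra h
    push Not at h
    have h9 : 3 ^ 2 ∣ 3 ^ n := pow_dvd_pow 3 h
    have : 9 ∣ 21 := by
      have := h9.trans hdvd
      norm_num at this
    omega
  calc 3 ^ n ≤ 3 ^ 1 := Nat.pow_le_pow_right (by norm_num) hn1
    _ = 3 := by norm_num

omit [Finite G] in
/-- elements of cube `1` of a group of order 42 lie in any subgroup of order 21 -/
theorem o50_e2_cube_mem (N C : Subgroup G) (hCN : C ≤ N) (hN : Nat.card N = 42)
    (hC : Nat.card C = 21) (g : G) (hg : g ∈ N) (hg3 : g ^ 3 = 1) : g ∈ C := by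
  have hcard : Nat.card (C.subgroupOf N) = 21 := by
    rw [Nat.card_congr (Subgroup.subgroupOfEquivOfLe hCN).toEquiv, hC]
  have hidx : (C.subgroupOf N).index = 2 := by
    have := Subgroup.index_mul_card (C.subgroupOf N)
    rw [hcard, hN] at this
    omega
  have h2 := Subgroup.mul_self_mem_of_index_two hidx (⟨g, hg⟩ : ↥N)
  rw [Subgroup.mem_subgroupOf] at h2
  have h2' : g * g ∈ C := by simpa using h2
  have h4 : (g * g) * (g * g) ∈ C := C.mul_mem h2' h2'
  have : (g * g) * (g * g) = g := by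
    calc (g * g) * (g * g) = g ^ 3 * g := by rw [pow_succ, pow_two]; group
      _ = g := by rw [hg3, one_mul]
  rwa [this] at h4

end setup

section fixed

variable {G : Type*} [Group G]

/-- fixed points of an element of order 3 -/
theorem o50_e2_fix3 {Ω : Type*} [MulAction G Ω] [Finite Ω] (z : G) (hz : orderOf z = 3) :
    Nat.card Ω ≡ Nat.card (fixedBy Ω z) [MOD 3] := by
  haveI : Fact (Nat.Prime 3) := ⟨by norm_num⟩
  have hK : IsPGroup 3 (Subgroup.zpowers z) :=
    IsPGroup.of_card (n := 1) (by rw [Nat.card_zpowers, hz, pow_one])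
  have h1 := o50_fix_modEq 3 (Subgroup.zpowers z) hK (Set.univ : Set Ω)
    (fun _ _ _ _ => Set.mem_univ _)
  have e1 : (Set.univ : Set Ω) ≃ Ω := Equiv.Set.univ Ω
  have e2 : {ω : Ω // ω ∈ (Set.univ : Set Ω) ∧ ∀ k ∈ Subgroup.zpowers z, k • ω = ω} ≃
      fixedBy Ω z :=
    { toFun := fun ω => ⟨ω.1, ω.2.2 z (Subgroup.mem_zpowers z)⟩
      invFun := fun ω => ⟨ω.1, Set.mem_univ _, fun k hk => by
        obtain ⟨j, rfl⟩ := Subgroup.mem_zpowers_iff.mp hk
        exact fixedBy_subset_fixedBy_zpow Ω z j ω.2⟩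
      left_inv := fun ω => rfl
      right_inv := fun ω => rfl }
  rw [Nat.card_congr e1, Nat.card_congr e2] at h1
  exact h1

/-- an element of a subgroup fixes the base coset -/
theorem o50_e2_base (N : Subgroup G) {g : G} (hg : g ∈ N) :
    g • (QuotientGroup.mk 1 : G ⧸ N) = QuotientGroup.mk 1 := by
  rw [MulAction.Quotient.smul_mk, smul_eq_mul, mul_one, QuotientGroup.eq, mul_one]
  exact N.inv_mem hg

/-- fixed points of an element centralizing a Sylow 7-subgroup of order 7, on the cosets of the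
normalizer -/
theorem o50_e2_fix7 [Finite G] (P : Sylow 7 G) (hP : Nat.card ↥(P : Subgroup G) = 7) (z : G)
    (hz : z ∈ Subgroup.centralizer ((P : Subgroup G) : Set G)) :
    Nat.card (fixedBy (G ⧸ Subgroup.normalizer ((P : Subgroup G) : Set G)) z) ≡ 1 [MOD 7] := by
  haveI : Fact (Nat.Prime 7) := ⟨by norm_num⟩
  set N := Subgroup.normalizer ((P : Subgroup G) : Set G) with hN
  have hPN : (P : Subgroup G) ≤ N := Subgroup.le_normalizer
  have hzN : z ∈ N := Subgroup.centralizer_le_normalizer _ hz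
  have hinv : ∀ k ∈ (P : Subgroup G), ∀ ω ∈ fixedBy (G ⧸ N) z, k • ω ∈ fixedBy (G ⧸ N) z := by
    intro k hk ω hω
    rw [mem_fixedBy] at hω ⊢
    rw [← mul_smul, ← (Subgroup.mem_centralizer_iff.mp hz) k hk, mul_smul, hω]
  have h1 := o50_fix_modEq 7 (P : Subgroup G) P.isPGroup' (fixedBy (G ⧸ N) z) hinv
  have h2 : Nat.card {ω : G ⧸ N // ω ∈ fixedBy (G ⧸ N) z ∧
      ∀ k ∈ (P : Subgroup G), k • ω = ω} = 1 := by
    obtain ⟨x, hx⟩ := exists_prime_orderOf_dvd_card' (G := ↥(P : Subgroup G)) 7 (by rw [hP])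
    have hx7 : orderOf (x : G) = 7 := by rw [Subgroup.orderOf_coe]; exact hx
    have h3 := (Cfsg.Agent.S1018.result 7 P hP).1 (x : G) hx7
    have hinj : Function.Injective
        (fun ω : {ω : G ⧸ N // ω ∈ fixedBy (G ⧸ N) z ∧ ∀ k ∈ (P : Subgroup G), k • ω = ω} =>
          (⟨ω.1, ω.2.2 x x.2⟩ : fixedBy (G ⧸ N) (x : G))) := by
      intro a b hab
      apply Subtype.ext
      have h4 : ((⟨a.1, a.2.2 x x.2⟩ : fixedBy (G ⧸ N) (x : G)) : G ⧸ N)
          = ((⟨b.1, b.2.2 x x.2⟩ : fixedBy (G ⧸ N) (x : G)) : G ⧸ N) :=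
        congrArg Subtype.val hab
      exact h4
    have hle := Nat.card_le_card_of_injective _ hinj
    rw [h3] at hle
    have hne : Nonempty {ω : G ⧸ N // ω ∈ fixedBy (G ⧸ N) z ∧
        ∀ k ∈ (P : Subgroup G), k • ω = ω} :=
      ⟨⟨(QuotientGroup.mk 1 : G ⧸ N), o50_e2_base N hzN, fun k hk => o50_e2_base N (hPN hk)⟩⟩
    have hpos : 0 < Nat.card {ω : G ⧸ N // ω ∈ fixedBy (G ⧸ N) z ∧
        ∀ k ∈ (P : Subgroup G), k • ω = ω} := Nat.card_pos
    omega
  rw [h2] at h1
  exact h1

end fixed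

section classes

variable {G : Type*} [Group G] [Finite G]

/-- the conjugates of `z` inside `N` -/
theorem o50_e2_classN (N C : Subgroup G) (hCN : C ≤ N) (hN : Nat.card N = 42)
    (hC : Nat.card C = 21) (hcomm : ∀ a ∈ C, ∀ b ∈ C, a * b = b * a) (z : G)
    (hz : orderOf z = 3) (hzC : z ∈ C) :
    1 ≤ Nat.card {g : G // IsConj z g ∧ g ∈ N} ∧ Nat.card {g : G // IsConj z g ∧ g ∈ N} ≤ 2 ∧
    (Nat.card {g : G // IsConj z g ∧ g ∈ N} = 2 → IsConj z z⁻¹) := by
  classical
  set A : Set G := {g : G | IsConj z g ∧ g ∈ N} with hA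
  set B : Set G := {g : G | g ∈ C ∧ g ^ 3 = 1} with hB
  have hAcard : Nat.card {g : G // IsConj z g ∧ g ∈ N} = A.ncard := Nat.card_coe_set_eq A
  have hBcard : B.ncard ≤ 3 := by
    rw [← Nat.card_coe_set_eq]; exact o50_e2_cube C hC hcomm
  have h1B : (1 : G) ∈ B := ⟨C.one_mem, one_pow 3⟩
  have hz1 : z ≠ 1 := by
    intro h; rw [h, orderOf_one] at hz; omega
  have hz3 : z ^ 3 = 1 := by rw [← hz]; exact pow_orderOf_eq_one z
  have hsub : A ⊆ B \ {1} := by
    rintro g ⟨hconj, hgN⟩
    obtain ⟨c, rfl⟩ := isConj_iff.mp hconj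
    have hg3 : (c * z * c⁻¹) ^ 3 = 1 := by rw [conj_pow, hz3]; group
    refine ⟨⟨o50_e2_cube_mem N C hCN hN hC _ hgN hg3, hg3⟩, ?_⟩
    intro h
    rw [Set.mem_singleton_iff] at h
    apply hz1
    have h5 : z = c⁻¹ * (c * z * c⁻¹) * c := by group
    rw [h5, h]; group
  have hBfin : B.Finite := Set.toFinite B
  have hdiff : (B \ {1}).ncard = B.ncard - 1 := Set.ncard_sdiff_singleton_of_mem h1B
  have hle : A.ncard ≤ (B \ {1}).ncard :=
    Set.ncard_le_ncard hsub (hBfin.subset Set.sdiff_subset)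
  have hzA : z ∈ A := ⟨IsConj.refl z, hCN hzC⟩
  have hpos : 1 ≤ A.ncard := by
    rw [Nat.succ_le_iff, Set.ncard_pos (Set.toFinite A)]; exact ⟨z, hzA⟩
  refine ⟨by rw [hAcard]; exact hpos, by rw [hAcard]; omega, ?_⟩
  intro h2
  rw [hAcard] at h2
  have heq : A = B \ {1} :=
    Set.eq_of_subset_of_ncard_le hsub (by omega) (hBfin.subset Set.sdiff_subset)
  have h6 : z⁻¹ ∈ B \ {1} :=
    ⟨⟨C.inv_mem hzC, by rw [inv_pow, hz3, inv_one]⟩, by simpa using hz1⟩
  rw [← heq] at h6
  exact h6.1

end classes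

section final

variable {G : Type*} [Group G] [Finite G]

/-- `63` divides the order of the centralizer of `z` -/
theorem o50_e2_dvd63 (hG : Nat.card G = 5040) (P : Sylow 7 G)
    (hP : Nat.card ↥(P : Subgroup G) = 7) (z : G) (hz : orderOf z = 3)
    (hzC : z ∈ Subgroup.centralizer ((P : Subgroup G) : Set G)) :
    63 ∣ Nat.card (Subgroup.centralizer ({z} : Set G)) := by
  haveI : Fact (Nat.Prime 3) := ⟨by norm_num⟩
  have h7 : 7 ∣ Nat.card (Subgroup.centralizer ({z} : Set G)) := by
    rw [← hP]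
    apply Subgroup.card_dvd_of_le
    intro a ha
    rw [Subgroup.mem_centralizer_iff]
    intro y hy
    rw [Set.mem_singleton_iff] at hy
    subst hy
    exact ((Subgroup.mem_centralizer_iff.mp hzC) a ha).symm
  have h9 : 9 ∣ Nat.card (Subgroup.centralizer ({z} : Set G)) := by
    have hK : IsPGroup 3 (Subgroup.zpowers z) :=
      IsPGroup.of_card (n := 1) (by rw [Nat.card_zpowers, hz, pow_one])
    obtain ⟨Q, hQ⟩ := hK.exists_le_sylow
    have hQ9 := o50_e2_cardQ hG Q
    rw [← hQ9]
    apply Subgroup.card_dvd_of_le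
    have hQc : IsMulCommutative ↥(Q : Subgroup G) :=
      IsPGroup.isMulCommutative_of_card_eq_prime_sq (p := 3) (by rw [hQ9]; norm_num)
    intro a ha
    rw [Subgroup.mem_centralizer_iff]
    intro y hy
    rw [Set.mem_singleton_iff] at hy
    subst hy
    have hzQ : y ∈ (Q : Subgroup G) := hQ (Subgroup.mem_zpowers y)
    have := hQc.is_comm.comm ⟨y, hzQ⟩ ⟨a, ha⟩
    exact congrArg Subtype.val this
  exact Nat.Coprime.mul_dvd_of_dvd_of_dvd (by norm_num : Nat.Coprime 7 9) h7 h9

/-- the arithmetic of the case -/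
theorem o50_e2_arith (f k m c : ℕ) (h1 : f * k = 120 * m) (h2 : k * c = 5040)
    (h3 : 120 ≡ f [MOD 3]) (h7 : f ≡ 1 [MOD 7]) (hf : f ≤ 120) (hm1 : 1 ≤ m) (hm2 : m ≤ 2) :
    c = 5040 ∨ c = 2520 ∨ c = 630 ∨ (c = 315 ∧ m = 2) := by
  unfold Nat.ModEq at h3 h7
  have hm : m = 1 ∨ m = 2 := by omega
  interval_cases f <;> try omega
  all_goals
    rcases hm with rfl | rfl
    all_goals
      first
        | omega
        | (have hk' : k = 8 := by omega
           subst hk'; omega)
        | (have hk' : k = 16 := by omega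
           subst hk'; omega)
        | (have hk' : k = 1 := by omega
           subst hk'; omega)
        | (have hk' : k = 2 := by omega
           subst hk'; omega)

end final

section main

variable {G : Type*} [Group G] [Finite G] [IsSimpleGroup G]

/-- a nontrivial element is not central -/
theorem o50_e2_not_central (hG : Nat.card G = 5040) (z : G) (hz1 : z ≠ 1) :
    Subgroup.centralizer ({z} : Set G) ≠ ⊤ := by
  intro htop
  have hzc : z ∈ Subgroup.center G := by
    rw [Subgroup.mem_center_iff]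
    intro g
    have hg : g ∈ Subgroup.centralizer ({z} : Set G) := by rw [htop]; exact Subgroup.mem_top g
    exact ((Subgroup.mem_centralizer_iff.mp hg) z rfl).symm
  rcases (Subgroup.Normal.eq_bot_or_eq_top
    (inferInstance : (Subgroup.center G).Normal)) with h | h
  · rw [h, Subgroup.mem_bot] at hzc; exact hz1 hzc
  · exact o50_not_comm hG (Subgroup.center_eq_top_iff.mp h)

/-- a subgroup of order at least 630 is everything -/
theorem o50_e2_big (hG : Nat.card G = 5040) (H : Subgroup G) (hH : 630 ≤ Nat.card H) :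
    H = ⊤ := by
  by_contra hne
  have h1 := o50_no_small_index hG H hne
  have h2 := Subgroup.index_mul_card H
  rw [hG] at h2
  have : 9 * 630 ≤ H.index * Nat.card H := Nat.mul_le_mul h1 hH
  omega

/-- **section 3b**: `|N_G(P)| = 42`, `|C_G(P)| = 21` does not occur -/
theorem o50_caseE2 (hG : Nat.card G = 5040) (P : Sylow 7 G)
    (hN : Nat.card ↥(Subgroup.normalizer ((P : Subgroup G) : Set G)) = 42)
    (hC : Nat.card ↥(Subgroup.centralizer ((P : Subgroup G) : Set G)) = 21) : False := by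
  classical
  haveI : Fact (Nat.Prime 7) := ⟨by norm_num⟩
  haveI : Fact (Nat.Prime 3) := ⟨by norm_num⟩
  have hP7 := o50_e2_cardP hG P
  have hCN : Subgroup.centralizer ((P : Subgroup G) : Set G) ≤
      Subgroup.normalizer ((P : Subgroup G) : Set G) := Subgroup.centralizer_le_normalizer _
  have hPcomm : ∀ a ∈ (P : Subgroup G), ∀ b ∈ (P : Subgroup G), a * b = b * a := by
    haveI : IsCyclic ↥(P : Subgroup G) := isCyclic_of_prime_card (p := 7) hP7
    intro a ha b hb
    have := (IsCyclic.isMulCommutative (α := ↥(P : Subgroup G))).is_comm.comm ⟨a, ha⟩ ⟨b, hb⟩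
    exact congrArg Subtype.val this
  have hPC : (P : Subgroup G) ≤ Subgroup.centralizer ((P : Subgroup G) : Set G) := by
    intro a ha
    rw [Subgroup.mem_centralizer_iff]
    intro b hb
    exact hPcomm b hb a ha
  have hCcomm := o50_e2_comm21 (Subgroup.centralizer ((P : Subgroup G) : Set G)) P hPC hC hP7
    (fun a ha b hb => (Subgroup.mem_centralizer_iff.mp hb) a ha)
  obtain ⟨zc, hzc⟩ := exists_prime_orderOf_dvd_card'
    (G := ↥(Subgroup.centralizer ((P : Subgroup G) : Set G))) 3 (by rw [hC]; norm_num)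
  obtain ⟨z, hzC⟩ := zc
  have hz3 : orderOf z = 3 := by
    rw [← hzc, ← Subgroup.orderOf_coe]
  have hz1 : z ≠ 1 := by
    intro h; rw [h, orderOf_one] at hz3; omega
  obtain ⟨hm1, hm2, hm3⟩ := o50_e2_classN _ _ hCN hN hC hCcomm z hz3 hzC
  have hidx : (Subgroup.normalizer ((P : Subgroup G) : Set G)).index = 120 := by
    have := Subgroup.index_mul_card (Subgroup.normalizer ((P : Subgroup G) : Set G))
    rw [hN, hG] at this
    omega
  have hΩ : Nat.card (G ⧸ Subgroup.normalizer ((P : Subgroup G) : Set G)) = 120 := hidx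
  have h3 := o50_e2_fix3 (Ω := G ⧸ Subgroup.normalizer ((P : Subgroup G) : Set G)) z hz3
  rw [hΩ] at h3
  have h7 := o50_e2_fix7 P hP7 z hzC
  have hf : Nat.card (MulAction.fixedBy
      (G ⧸ Subgroup.normalizer ((P : Subgroup G) : Set G)) z) ≤ 120 := by
    rw [← hΩ]
    exact Nat.card_le_card_of_injective Subtype.val Subtype.val_injective
  have h1019 := Cfsg.Agent.S1019.result (Subgroup.normalizer ((P : Subgroup G) : Set G)) z
    (hCN hzC)
  rw [hidx] at h1019
  have hcc := Cfsg.Agent.Helper9.InvAut.card_conj_mul_card_centralizer z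
  rw [hG] at hcc
  rcases o50_e2_arith _ _ _ _ h1019 hcc h3 h7 hf hm1 hm2 with hc | hc | hc | ⟨hc, hm⟩
  · exact o50_e2_not_central hG z hz1 (Subgroup.eq_top_of_card_eq _ (by rw [hc, hG]))
  · exact o50_e2_not_central hG z hz1 (o50_e2_big hG _ (by rw [hc]; norm_num))
  · exact o50_e2_not_central hG z hz1 (o50_e2_big hG _ (by rw [hc]))
  · obtain ⟨g, hg⟩ := isConj_iff.mp (hm3 hm)
    have hCz : Subgroup.centralizer ({z} : Set G) ≤
        Subgroup.normalizer ((Subgroup.zpowers z : Subgroup G) : Set G) := by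
      have h1 : Subgroup.centralizer ({z} : Set G) =
          Subgroup.centralizer ((Subgroup.zpowers z : Subgroup G) : Set G) := by
        rw [Subgroup.zpowers_eq_closure, Subgroup.centralizer_closure]
      rw [h1]
      exact Subgroup.centralizer_le_normalizer _
    have hgH : g ∈ Subgroup.normalizer ((Subgroup.zpowers z : Subgroup G) : Set G) := by
      apply Subgroup.mem_normalizer_fintype
      intro n hn
      obtain ⟨j, rfl⟩ := Subgroup.mem_zpowers_iff.mp hn
      rw [SetLike.mem_coe, ← conj_zpow, hg]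
      exact Subgroup.zpow_mem _ (Subgroup.inv_mem _ (Subgroup.mem_zpowers z)) j
    have hgC : g ∉ Subgroup.centralizer ({z} : Set G) := by
      intro h
      have h1 := (Subgroup.mem_centralizer_iff.mp h) z rfl
      have h2 : z = z⁻¹ := by
        rw [← hg, ← h1]; group
      have h3' : z ^ 2 = 1 := by
        rw [sq]
        calc z * z = z * z⁻¹ := by rw [← h2]
          _ = 1 := mul_inv_cancel z
      have := orderOf_dvd_of_pow_eq_one h3'
      rw [hz3] at this
      omega
    have hcard : 630 ≤ Nat.card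
        (Subgroup.normalizer ((Subgroup.zpowers z : Subgroup G) : Set G)) := by
      have hd := Subgroup.card_dvd_of_le hCz
      rw [hc] at hd
      have hl : 315 < Nat.card
          (Subgroup.normalizer ((Subgroup.zpowers z : Subgroup G) : Set G)) := by
        by_contra hle
        push Not at hle
        have := Subgroup.eq_of_le_of_card_ge hCz (by rw [hc]; exact hle)
        exact hgC (by rw [this]; exact hgH)
      obtain ⟨j, hj⟩ := hd
      omega
    have htop := o50_e2_big hG _ hcard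
    have hnorm : (Subgroup.zpowers z).Normal := Subgroup.normalizer_eq_top_iff.mp htop
    rcases hnorm.eq_bot_or_eq_top with h | h
    · exact hz1 (by
        have := Subgroup.mem_zpowers z
        rw [h, Subgroup.mem_bot] at this
        exact this)
    · have h4 : Nat.card (Subgroup.zpowers z) = 3 := by rw [Nat.card_zpowers, hz3]
      rw [h, Subgroup.card_top, hG] at h4
      omega

end main

end Cfsg.Agent.O50
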