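import Mathlib
import Cfsg.Prelude.Def_Characters
import Cfsg.Prelude.Def_Blocks
import Cfsg.Agent.Helper6.RepEigen
import Cfsg.Agent.Helper6.FinOrder
import Cfsg.Agent.Helper6.Codegree

/-!
# S0978 (no simple group of order 5040), file F3 (helper1): the determinant of a perfect group

For a perfect group every representation has determinant `1`; hence for an element `t` with
`t * t = 1` and a character `χ`: `χ t` is an integer `m` with `m ≡ χ 1 (mod 4)` and `|m| ≤ χ 1`.
-/

set_option autoImplicit false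
set_option linter.style.haveILetI false

namespace Cfsg.Agent.O50

open Cfsg Cfsg.Agent.Helper6

universe u

/-- a representation of a perfect group has determinant `1` -/
theorem o50_det_one {G : Type u} [Group G] (hperf : commutator G = ⊤) {n : ℕ}
    (ρ : Representation ℂ G (Fin n → ℂ)) (g : G) : LinearMap.det (ρ g) = 1 := by
  let φ : G →* ℂ := (LinearMap.det : ((Fin n → ℂ) →ₗ[ℂ] (Fin n → ℂ)) →* ℂ).comp ρ
  let ψ : G →* ℂˣ := φ.toHomUnits
  have h1 : commutator G ≤ ψ.ker := Abelianization.commutator_subset_ker ψ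
  have h2 : g ∈ ψ.ker := h1 (by rw [hperf]; exact Subgroup.mem_top g)
  rw [MonoidHom.mem_ker] at h2
  have h3 : ((ψ g : ℂˣ) : ℂ) = 1 := by rw [h2]; rfl
  exact h3

/-- the determinant of an endomorphism with an eigenbasis -/
theorem o50_det_eigenbasis {V : Type*} [AddCommGroup V] [Module ℂ V]
    {ι : Type*} [Fintype ι] [DecidableEq ι] (b : Module.Basis ι ℂ V) (f : Module.End ℂ V) (μ : ι → ℂ)
    (hb : ∀ i, f (b i) = μ i • b i) : LinearMap.det f = ∏ i, μ i := by
  rw [← LinearMap.det_toMatrix b f]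
  have h1 : LinearMap.toMatrix b b f = Matrix.diagonal μ := by
    ext i j
    rw [LinearMap.toMatrix_apply, hb j, map_smul, Finsupp.smul_apply, Module.Basis.repr_self,
      Matrix.diagonal_apply]
    by_cases hij : i = j
    · subst hij
      simp
    · rw [if_neg hij, Finsupp.single_apply, if_neg (Ne.symm hij), smul_zero]
  rw [h1, Matrix.det_diagonal]

/-- sum and product of a family of signs -/
theorem o50_signs {ι : Type*} [Fintype ι] [DecidableEq ι] (μ : ι → ℂ)
    (hμ : ∀ i, μ i = 1 ∨ μ i = -1) :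
    ∃ k : ℕ, k ≤ Fintype.card ι ∧ ∑ i, μ i = ((Fintype.card ι : ℤ) - 2 * (k : ℤ) : ℤ) ∧
      ∏ i, μ i = (-1 : ℂ) ^ k := by
  classical
  refine ⟨(Finset.univ.filter (fun i => μ i = -1)).card, Finset.card_le_univ _, ?_, ?_⟩
  · have h1 : ∀ i, μ i = 1 - 2 * (if μ i = -1 then (1 : ℂ) else 0) := by
      intro i
      rcases hμ i with h | h
      · rw [h]
        have : ¬ ((1 : ℂ) = -1) := by norm_num
        rw [if_neg this]
        ring
      · rw [h, if_pos rfl]
        ring
    rw [Finset.sum_congr rfl (fun i _ => h1 i), Finset.sum_sub_distrib, ← Finset.mul_sum,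
      Finset.sum_boole, Finset.sum_const, Finset.card_univ, nsmul_eq_mul, mul_one]
    push_cast
    ring
  · have h1 : ∀ i, μ i = if μ i = -1 then (-1 : ℂ) else 1 := by
      intro i
      rcases hμ i with h | h
      · rw [h]
        have : ¬ ((1 : ℂ) = -1) := by norm_num
        rw [if_neg this]
      · rw [h, if_pos rfl]
    rw [Finset.prod_congr rfl (fun i _ => h1 i), Finset.prod_ite, Finset.prod_const,
      Finset.prod_const_one, mul_one]

/-- **det-mod-4**: in a perfect group, `χ t ≡ χ 1 (mod 4)` for `t * t = 1` -/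
theorem o50_det_mod4 {G : Type u} [Group G] [Finite G] (hperf : commutator G = ⊤)
    {χ : G → ℂ} (hχ : Cfsg.IsCharacter G χ) (t : G) (ht : t * t = 1) :
    ∃ m : ℤ, χ t = (m : ℂ) ∧ m ≡ (Cfsg.charDegree χ : ℤ) [ZMOD 4] ∧
      |m| ≤ (Cfsg.charDegree χ : ℤ) := by
  classical
  obtain ⟨n, ρ, rfl⟩ := hχ
  obtain ⟨ι, hι, b, μ, h1, h2, h3⟩ := exists_eigenbasis_rep ρ t
  have hord : orderOf t ∣ 2 := orderOf_dvd_of_pow_eq_one (by rw [pow_two]; exact ht)
  have hμ2 : ∀ i, μ i ^ 2 = 1 := by
    intro i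
    obtain ⟨c, hc⟩ := hord
    rw [hc, pow_mul, h2 i, one_pow]
  have hμ : ∀ i, μ i = 1 ∨ μ i = -1 := by
    intro i
    have h4 : (μ i - 1) * (μ i + 1) = 0 := by linear_combination hμ2 i
    rcases mul_eq_zero.mp h4 with h5 | h5
    · left; linear_combination h5
    · right; linear_combination h5
  obtain ⟨k, hk, hsum, hprod⟩ := o50_signs μ hμ
  have hcard : Fintype.card ι = n := by
    rw [h3]
    simp
  have hdeg : Cfsg.charDegree ρ.character = n := charDegree_rep ρ
  have htr : ρ.character t = ∑ i, μ i := trace_eq_sum_of_eigenbasis b (ρ t) μ h1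
  have hdet : ∏ i, μ i = 1 := by
    rw [← o50_det_eigenbasis b (ρ t) μ h1]
    exact o50_det_one hperf ρ t
  have hkeven : Even k := by
    rw [hprod] at hdet
    by_contra hodd
    rw [Nat.not_even_iff_odd] at hodd
    rw [hodd.neg_one_pow] at hdet
    norm_num at hdet
  obtain ⟨j, hj⟩ := hkeven
  refine ⟨(n : ℤ) - 2 * (k : ℤ), ?_, ?_, ?_⟩
  · rw [htr, hsum, hcard]
  · rw [hdeg, hj]
    apply Int.ModEq.symm
    rw [Int.modEq_iff_dvd]
    refine ⟨-(j : ℤ), ?_⟩
    push_cast
    ring
  · rw [hdeg, abs_le]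
    rw [hcard] at hk
    constructor <;> omega

end Cfsg.Agent.O50
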