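import Mathlib
import Cfsg.Agent.S4441
import Cfsg.Agent.BR.RedV
import Cfsg.Agent.BR.RedX
import Cfsg.Agent.BR.RedK
import Cfsg.Agent.O459.Val
import Cfsg.Agent.BL3.Ker
import Cfsg.Agent.O50.Arith
import Cfsg.Agent.O50.Det
import Cfsg.Agent.O50.Idx

/-!
# S0978 (no simple group of order 5040), file F5 (helper7): the cases `n₇ = 36, e = 2` and
`n₇ = 120, e = 3`

`G` simple of order `5040`, `P` a Sylow `7`-subgroup, `N = N_G(P)`, `C = C_G(P)`.  In both cases
`|C|` is even, so `C` contains an involution `u`.  By `S4441` the principal `7`-block is `X ⊔ Y`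
with `1_G ∈ X`; each nontrivial `χ ∈ X` has `χ(x u) = ε_χ` for `x ∈ P ∖ 1`, so `m = χ(u)` is an
integer with `m ≡ ε_χ (7)` (`o459_val_main`), `m ≡ χ(1) (4)` (`o50_det_mod4`), `|m| ≤ χ(1)` and
`m ≠ χ(1)` (`bl3_ker`).  Together with the degree equation at `1` and the relation at `u` the
arithmetic lemmas `o50_case36`, `o50_case3` of `O50/Arith.lean` give a contradiction.
See `notes/S0978_helper1.md`, sections 2 and 3a.
-/

set_option autoImplicit false
set_option linter.style.haveILetI false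

namespace Cfsg.Agent.O50

open Cfsg Cfsg.Agent.Helper6 Cfsg.Agent.BR Cfsg.Agent.O459 Cfsg.Agent.BL3
open scoped commutatorElement

universe u

variable {G : Type u} [Group G]

/-- a set of cardinality `2` containing `x₁` is `{x₁, x₂}` with `x₂ ≠ x₁` -/
theorem o50_cv_two {α : Type*} (X : Set α) (h2 : Nat.card X = 2) (x₁ : α) (h1 : x₁ ∈ X) :
    ∃ x₂ : α, x₂ ≠ x₁ ∧ X = {x₁, x₂} := by
  rw [Nat.card_coe_set_eq] at h2
  obtain ⟨a, b, hab, rfl⟩ := Set.ncard_eq_two.mp h2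
  simp only [Set.mem_insert_iff, Set.mem_singleton_iff] at h1
  rcases h1 with rfl | rfl
  · exact ⟨b, hab.symm, rfl⟩
  · exact ⟨a, hab, Set.pair_comm a x₁⟩

/-- a simple group of order `5040` is perfect -/
theorem o50_cv_perfect [Finite G] [IsSimpleGroup G] (hG : Nat.card G = 5040) :
    commutator G = ⊤ := by
  rcases (inferInstance : (commutator G).Normal).eq_bot_or_eq_top with h | h
  · exfalso
    apply o50_not_comm hG
    refine ⟨⟨fun a b => ?_⟩⟩
    have h1 : ⁅a, b⁆ ∈ commutator G := by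
      rw [_root_.commutator_def]
      exact Subgroup.commutator_mem_commutator (Subgroup.mem_top a) (Subgroup.mem_top b)
    rw [h, Subgroup.mem_bot, commutatorElement_eq_one_iff_mul_comm] at h1
    exact h1
  · exact h

/-- the Sylow `7`-subgroups of a group of order `5040` have order `7` -/
theorem o50_cv_cardP [Finite G] (hG : Nat.card G = 5040) (P : Sylow 7 G) :
    Nat.card (P : Subgroup G) = 7 := by
  haveI : Fact (Nat.Prime 7) := ⟨by norm_num⟩
  rw [Sylow.card_eq_multiplicity, hG]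
  have h : (5040 : ℕ).factorization 7 = 1 := by
    have h1 : (5040 : ℕ) = 7 ^ 1 * 720 := by norm_num
    have h2 : (720 : ℕ).factorization 7 = 0 :=
      Nat.factorization_eq_zero_of_not_dvd (by norm_num)
    rw [h1, Nat.factorization_mul (by norm_num) (by norm_num), Finsupp.add_apply,
      Nat.Prime.factorization_pow (by norm_num), Finsupp.single_eq_same, h2]
  rw [h, pow_one]

/-- the number of Sylow subgroups and the index `|N : C|` from the orders of `N`, `C` -/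
theorem o50_cv_counts [Finite G] (hG : Nat.card G = 5040) (P : Sylow 7 G) (a c : ℕ)
    (hN : Nat.card ↥(Subgroup.normalizer ((P : Subgroup G) : Set G)) = a)
    (hC : Nat.card ↥(Subgroup.centralizer ((P : Subgroup G) : Set G)) = c) :
    Nat.card (Sylow 7 G) * a = 5040 ∧
      c * (Subgroup.centralizer ((P : Subgroup G) : Set G)).relIndex
        (Subgroup.normalizer ((P : Subgroup G) : Set G)) = a := by
  haveI : Fact (Nat.Prime 7) := ⟨by norm_num⟩
  constructor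
  · rw [Sylow.card_eq_index_normalizer P, ← hN, ← hG, mul_comm]
    exact Subgroup.card_mul_index _
  · have hCN : Subgroup.centralizer ((P : Subgroup G) : Set G) ≤
        Subgroup.normalizer ((P : Subgroup G) : Set G) := Subgroup.centralizer_le_normalizer _
    have h2 := Subgroup.relIndex_mul_relIndex ⊥
      (Subgroup.centralizer ((P : Subgroup G) : Set G))
      (Subgroup.normalizer ((P : Subgroup G) : Set G)) bot_le hCN
    rw [Subgroup.relIndex_bot_left, Subgroup.relIndex_bot_left, hN, hC] at h2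
    exact h2

/-- an involution in a subgroup of even order -/
theorem o50_cv_invol [Finite G] (K : Subgroup G) (hK : 2 ∣ Nat.card K) :
    ∃ v : G, v ∈ K ∧ v ≠ 1 ∧ v * v = 1 := by
  haveI : Fact (Nat.Prime 2) := ⟨by norm_num⟩
  obtain ⟨v, hv⟩ := exists_prime_orderOf_dvd_card' (G := K) 2 hK
  refine ⟨(v : G), v.2, ?_, ?_⟩
  · intro h1
    have : v = 1 := Subtype.ext h1
    rw [this, orderOf_one] at hv
    omega
  · have h2 : v ^ 2 = 1 := by rw [← hv]; exact pow_orderOf_eq_one v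
    have h3 : ((v ^ 2 : K) : G) = 1 := by rw [h2]; rfl
    rw [← pow_two]
    exact_mod_cast h3

/-- **the value of a nontrivial member of `X` at an involution of `C(P)`** -/
theorem o50_cv_val [Finite G] (hperf : commutator G = ⊤)
    (hsimp : ∀ K : Subgroup G, K.Normal → K = ⊥ ∨ K = ⊤) (P : Sylow 7 G)
    (hP : Nat.card (P : Subgroup G) = 7) (v : G)
    (hvC : v ∈ Subgroup.centralizer ((P : Subgroup G) : Set G)) (hv1 : v ≠ 1) (hv2 : v * v = 1)
    (χ : Cfsg.IrrCharacter G) (hχ : χ ≠ trivIrr G) (ε : ℤ)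
    (hval : ∀ x : G, x ∈ (P : Subgroup G) → x ≠ 1 → ∀ y : G,
      y ∈ Subgroup.centralizer ((P : Subgroup G) : Set G) → ¬ 7 ∣ orderOf y →
      (χ : G → ℂ) (x * y) = (ε : ℂ)) :
    ∃ m : ℤ, (χ : G → ℂ) v = (m : ℂ) ∧ m ≡ ε [ZMOD 7] ∧
      m ≡ (Cfsg.charDegree (χ : G → ℂ) : ℤ) [ZMOD 4] ∧
      |m| ≤ (Cfsg.charDegree (χ : G → ℂ) : ℤ) ∧ m ≠ (Cfsg.charDegree (χ : G → ℂ) : ℤ) := by
  haveI : Fact (Nat.Prime 7) := ⟨by norm_num⟩
  have hchar : Cfsg.IsCharacter G (χ : G → ℂ) := IsIrrCharacter.isCharacter χ.2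
  obtain ⟨x, hxP, hx1, hord, -, -⟩ := br_redb_generator 7 (P : Subgroup G) hP
  have hx7 : x ^ 7 = 1 := by rw [← hord]; exact pow_orderOf_eq_one x
  have hcomm : x * v = v * x := by
    rw [Subgroup.mem_centralizer_iff] at hvC
    exact hvC x hxP
  have hordv : orderOf v = 2 := by
    apply orderOf_eq_prime
    · rw [pow_two]; exact hv2
    · exact hv1
  have hv7 : ¬ 7 ∣ orderOf v := by rw [hordv]; norm_num
  have hvalj : ∀ j : ℕ, ¬ 7 ∣ j → (χ : G → ℂ) (x ^ j * v) = (ε : ℂ) := by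
    intro j hj
    apply hval (x ^ j) (Subgroup.pow_mem _ hxP j) _ v hvC hv7
    intro h1
    apply hj
    rw [← hord]
    exact orderOf_dvd_of_pow_eq_one h1
  obtain ⟨m, hm, hm7, -⟩ := o459_val_main hchar 7 (by norm_num) x v hx7
    (by rw [pow_two]; exact hv2) hcomm ε hvalj
  obtain ⟨m', hm', hm4, hmabs⟩ := o50_det_mod4 hperf hchar v hv2
  have hmm : m' = m := by
    have : (m' : ℂ) = (m : ℂ) := by rw [← hm', hm]
    exact_mod_cast this
  subst hmm
  refine ⟨m', hm, by exact_mod_cast hm7, hm4, hmabs, ?_⟩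
  intro heq
  have hne : (χ : G → ℂ) ≠ fun _ => 1 := by
    intro h
    apply hχ
    apply br_redb_eq_triv hperf
    rw [h]
  have hker := bl3_ker χ hne v (fun K hK hvK => by
    rcases hsimp K hK with h | h
    · exfalso
      rw [h, Subgroup.mem_bot] at hvK
      exact hv1 hvK
    · exact h)
  apply hker
  rw [hm, (br_redb_degree χ).2, heq]
  push_cast
  rfl

/-- **the front**: the data of `S4441` for `p = 7`, `e ∈ {2, 3}`, with `1_G ∈ X` -/
theorem o50_cv_front [Finite G] (P : Sylow 7 G)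
    (hP : Nat.card (P : Subgroup G) = 7) (e n : ℕ)
    (he : (Subgroup.centralizer ((P : Subgroup G) : Set G)).relIndex
      (Subgroup.normalizer ((P : Subgroup G) : Set G)) = e) (he23 : e = 2 ∨ e = 3)
    (hn : Nat.card (Sylow 7 G) = n) :
    ∃ (X Y : Set (Cfsg.IrrCharacter G)) (εX : Cfsg.IrrCharacter G → ℤ) (ε : ℤ),
      Disjoint X Y ∧ Nat.card X = e ∧ trivIrr G ∈ X ∧ εX (trivIrr G) = 1 ∧ (ε = 1 ∨ ε = -1) ∧
      (∀ χ ∈ X, (εX χ = 1 ∨ εX χ = -1) ∧
        (Cfsg.charDegree (χ : G → ℂ) : ℤ) ≡ εX χ [ZMOD 7] ∧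
        Cfsg.charDegree (χ : G → ℂ) ∣ e * n ∧
        ∀ x : G, x ∈ (P : Subgroup G) → x ≠ 1 → ∀ y : G,
          y ∈ Subgroup.centralizer ((P : Subgroup G) : Set G) → ¬ 7 ∣ orderOf y →
          (χ : G → ℂ) (x * y) = (εX χ : ℂ)) ∧
      ∃ θ₀ ∈ Y, Cfsg.charDegree (θ₀ : G → ℂ) ∣ e * n ∧
        ∀ g : G, ¬ 7 ∣ orderOf g →
          (ε : ℂ) * (θ₀ : G → ℂ) g = ∑ᶠ χ ∈ X, (εX χ : ℂ) * (χ : G → ℂ) g := by
  classical
  haveI : Fact (Nat.Prime 7) := ⟨by norm_num⟩
  haveI : Fintype G := Fintype.ofFinite G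
  haveI : Finite (Cfsg.IrrCharacter G) := irr_finite
  obtain ⟨M, hM⟩ := exists_isPModular 7 (by norm_num)
  obtain ⟨X, Y, hB, hdisj, hcX, hcY, εX, ε, hX, hε, hYdeg, hYreg, hrel⟩ :=
    Cfsg.Agent.S4441.result 7 M hM (by norm_num) P hP e he
  have hp1 : ¬ 7 ∣ orderOf (1 : G) := by
    rw [orderOf_one]
    norm_num
  have hXval : ∀ χ ∈ X, ∀ x : G, x ∈ (P : Subgroup G) → x ≠ 1 →
      (χ : G → ℂ) x = (εX χ : ℂ) := by
    intro χ hχ x hx hx1
    have := (hX χ hχ).2.2 x hx hx1 1 (one_mem _) hp1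
    rwa [mul_one] at this
  have hdvdX : ∀ χ ∈ X, Cfsg.charDegree (χ : G → ℂ) ∣ e * n := by
    intro χ hχ
    have h1 := br_redx_degree_dvd 7 P hP χ (εX χ) (hX χ hχ).1 (hXval χ hχ)
    rwa [he, hn] at h1
  have hdvdY : ∀ θ ∈ Y, Cfsg.charDegree (θ : G → ℂ) ∣ e * n := by
    intro θ hθ
    have h1 := br_redv_dvd_Y 7 M hM P hP X Y hB hdisj εX ε hε hXval hYreg hrel θ hθ
    rwa [he, hn] at h1
  have hcY2 : 2 ≤ Nat.card Y := by
    rw [hcY]
    rcases he23 with h | h <;> subst h <;> norm_num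
  haveI : Nonempty Y := by
    rcases isEmpty_or_nonempty Y with he' | hne'
    · rw [Nat.card_of_isEmpty] at hcY2
      omega
    · exact hne'
  obtain ⟨⟨θ₀, hθ₀⟩⟩ := (inferInstance : Nonempty Y)
  have htrivX : trivIrr G ∈ X := by
    have htriv : trivIrr G ∈ X ∪ Y := by
      rw [← hB]
      exact trivIrr_mem_principalBlock hM.2.1
    rcases htriv with ht | ht
    · exact ht
    · exfalso
      have h1 := hYdeg (trivIrr G) ht
      rw [br_redb_charDegree_triv] at h1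
      have h2 := Int.ModEq.dvd h1
      rcases hε with e' | e' <;> rcases he23 with h | h <;> rw [e', h] at h2 <;>
        norm_num at h2
  have hεtriv : εX (trivIrr G) = 1 := by
    have h1 := (hX _ htrivX).2.1
    rw [br_redb_charDegree_triv] at h1
    have h2 := Int.ModEq.dvd h1
    rcases (hX _ htrivX).1 with e' | e'
    · exact e'
    · exfalso
      rw [e'] at h2
      norm_num at h2
  refine ⟨X, Y, εX, ε, hdisj, hcX, htrivX, hεtriv, hε, fun χ hχ => ?_, θ₀, hθ₀, hdvdY θ₀ hθ₀,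
    hrel θ₀ hθ₀⟩
  exact ⟨(hX χ hχ).1, by exact_mod_cast (hX χ hχ).2.1, hdvdX χ hχ, (hX χ hχ).2.2⟩

/-- **the case `n₇ = 36`, `e = 2`** (core form) -/
theorem o50_cv_core2 [Finite G] (hperf : commutator G = ⊤)
    (hsimp : ∀ K : Subgroup G, K.Normal → K = ⊥ ∨ K = ⊤) (P : Sylow 7 G)
    (hP : Nat.card (P : Subgroup G) = 7)
    (he : (Subgroup.centralizer ((P : Subgroup G) : Set G)).relIndex
      (Subgroup.normalizer ((P : Subgroup G) : Set G)) = 2)
    (hn : Nat.card (Sylow 7 G) = 36) (v : G)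
    (hvC : v ∈ Subgroup.centralizer ((P : Subgroup G) : Set G)) (hv1 : v ≠ 1)
    (hv2 : v * v = 1) : False := by
  classical
  obtain ⟨X, Y, εX, ε, hdisj, hcX, htrivX, hεtriv, hε, hX, θ₀, hθ₀, hdvdθ, hrel⟩ :=
    o50_cv_front P hP 2 36 he (Or.inl rfl) hn
  obtain ⟨χ, hχne, hXeq⟩ := o50_cv_two X hcX (trivIrr G) htrivX
  have hχX : χ ∈ X := by rw [hXeq]; exact Set.mem_insert_of_mem _ rfl
  obtain ⟨hs, hfmod, hfdvd, hval⟩ := hX χ hχX
  obtain ⟨m, hm, hm7, hm4, hmabs, hmne⟩ :=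
    o50_cv_val hperf hsimp P hP v hvC hv1 hv2 χ hχne (εX χ) hval
  have hp1 : ¬ 7 ∣ orderOf (1 : G) := by
    rw [orderOf_one]
    norm_num
  have hfpos := (br_redb_degree χ).1
  have hf1 : Cfsg.charDegree (χ : G → ℂ) ≠ 1 := by
    intro h1
    apply hχne
    apply br_redb_eq_triv hperf
    rw [(br_redb_degree χ).2, h1, Nat.cast_one]
  have heq : ε * (Cfsg.charDegree (θ₀ : G → ℂ) : ℤ) =
      1 + εX χ * (Cfsg.charDegree (χ : G → ℂ) : ℤ) := by
    have h1 := hrel 1 hp1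
    rw [hXeq, finsum_mem_pair hχne.symm, hεtriv, (br_redb_degree θ₀).2, (br_redb_degree χ).2,
      (br_redb_degree (trivIrr G)).2, br_redb_charDegree_triv] at h1
    exact_mod_cast h1
  exact o50_case36 _ _ (εX χ) ε hs hε (by simpa using hfdvd) (by omega) hfmod
    (by simpa using hdvdθ) heq m hm7 hm4 hmabs hmne

/-- **the case `n₇ = 120`, `e = 3`** (core form) -/
theorem o50_cv_core3 [Finite G] (hperf : commutator G = ⊤)
    (hsimp : ∀ K : Subgroup G, K.Normal → K = ⊥ ∨ K = ⊤) (P : Sylow 7 G)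
    (hP : Nat.card (P : Subgroup G) = 7)
    (he : (Subgroup.centralizer ((P : Subgroup G) : Set G)).relIndex
      (Subgroup.normalizer ((P : Subgroup G) : Set G)) = 3)
    (hn : Nat.card (Sylow 7 G) = 120) (v : G)
    (hvC : v ∈ Subgroup.centralizer ((P : Subgroup G) : Set G)) (hv1 : v ≠ 1)
    (hv2 : v * v = 1) : False := by
  classical
  obtain ⟨X, Y, εX, ε, hdisj, hcX, htrivX, hεtriv, hε, hX, θ₀, hθ₀, hdvdθ, hrel⟩ :=
    o50_cv_front P hP 3 120 he (Or.inr rfl) hn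
  obtain ⟨χ₁, χ₂, h1ne, h2ne, h12, hXeq⟩ := bl3_three X hcX (trivIrr G) htrivX
  have hχ₁X : χ₁ ∈ X := by rw [hXeq]; simp
  have hχ₂X : χ₂ ∈ X := by rw [hXeq]; simp
  obtain ⟨hs1, hf1mod, hf1dvd, hval1⟩ := hX χ₁ hχ₁X
  obtain ⟨hs2, hf2mod, hf2dvd, hval2⟩ := hX χ₂ hχ₂X
  obtain ⟨m1, hm1, hm17, hm14, hm1abs, hm1ne⟩ :=
    o50_cv_val hperf hsimp P hP v hvC hv1 hv2 χ₁ h1ne (εX χ₁) hval1
  obtain ⟨m2, hm2, hm27, hm24, hm2abs, hm2ne⟩ :=
    o50_cv_val hperf hsimp P hP v hvC hv1 hv2 χ₂ h2ne (εX χ₂) hval2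
  have hp1 : ¬ 7 ∣ orderOf (1 : G) := by
    rw [orderOf_one]
    norm_num
  have hordv : orderOf v = 2 := by
    apply orderOf_eq_prime
    · rw [pow_two]; exact hv2
    · exact hv1
  have hv7 : ¬ 7 ∣ orderOf v := by rw [hordv]; norm_num
  have hdeg1 : ∀ χ : Cfsg.IrrCharacter G, χ ≠ trivIrr G →
      2 ≤ Cfsg.charDegree (χ : G → ℂ) := by
    intro χ hχne
    have hfpos := (br_redb_degree χ).1
    have hf1 : Cfsg.charDegree (χ : G → ℂ) ≠ 1 := by
      intro h1
      apply hχne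
      apply br_redb_eq_triv hperf
      rw [(br_redb_degree χ).2, h1, Nat.cast_one]
    omega
  have hnot1 : trivIrr G ∉ ({χ₁, χ₂} : Set (Cfsg.IrrCharacter G)) := by
    simp only [Set.mem_insert_iff, Set.mem_singleton_iff, not_or]
    exact ⟨h1ne.symm, h2ne.symm⟩
  have hsum : ∀ g : G, ∑ᶠ χ ∈ X, (εX χ : ℂ) * (χ : G → ℂ) g =
      (trivIrr G : G → ℂ) g + (εX χ₁ : ℂ) * (χ₁ : G → ℂ) g + (εX χ₂ : ℂ) * (χ₂ : G → ℂ) g := by
    intro g
    rw [hXeq, finsum_mem_insert _ hnot1 (Set.toFinite _), finsum_mem_pair h12, hεtriv]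
    push_cast
    ring
  have htriv1 : ∀ g : G, (trivIrr G : G → ℂ) g = 1 := fun g => rfl
  have heq : ε * (Cfsg.charDegree (θ₀ : G → ℂ) : ℤ) =
      1 + εX χ₁ * (Cfsg.charDegree (χ₁ : G → ℂ) : ℤ) +
        εX χ₂ * (Cfsg.charDegree (χ₂ : G → ℂ) : ℤ) := by
    have h1 := hrel 1 hp1
    rw [hsum, htriv1, (br_redb_degree θ₀).2, (br_redb_degree χ₁).2, (br_redb_degree χ₂).2] at h1
    exact_mod_cast h1
  -- the value of `θ₀` at `v`
  have hε2 : ε * ε = 1 := by rcases hε with h | h <;> rw [h] <;> norm_num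
  obtain ⟨mθ, hmθ⟩ : ∃ mθ : ℤ, mθ = ε * (1 + εX χ₁ * m1 + εX χ₂ * m2) := ⟨_, rfl⟩
  have hθrel : ε * mθ = 1 + εX χ₁ * m1 + εX χ₂ * m2 := by
    rw [hmθ, ← mul_assoc, hε2, one_mul]
  have hθv : (θ₀ : G → ℂ) v = (mθ : ℂ) := by
    have h1 := hrel v hv7
    rw [hsum, htriv1, hm1, hm2] at h1
    have h2 : (θ₀ : G → ℂ) v = (ε : ℂ) * ((ε : ℂ) * (θ₀ : G → ℂ) v) := by
      rw [← mul_assoc]
      have : (ε : ℂ) * (ε : ℂ) = 1 := by exact_mod_cast hε2
      rw [this, one_mul]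
    rw [h2, h1, hmθ]
    push_cast
    ring
  have hθne : θ₀ ≠ trivIrr G := by
    intro h
    rw [h] at hθ₀
    exact (Set.disjoint_left.mp hdisj htrivX) hθ₀
  have hθnv : mθ ≠ (Cfsg.charDegree (θ₀ : G → ℂ) : ℤ) := by
    intro heq'
    have hne : (θ₀ : G → ℂ) ≠ fun _ => 1 := by
      intro h
      apply hθne
      apply br_redb_eq_triv hperf
      rw [h]
    have hker := bl3_ker θ₀ hne v (fun K hK hvK => by
      rcases hsimp K hK with h | h
      · exfalso
        rw [h, Subgroup.mem_bot] at hvK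
        exact hv1 hvK
      · exact h)
    apply hker
    rw [hθv, (br_redb_degree θ₀).2, heq']
    push_cast
    rfl
  exact o50_case3 _ _ _ (εX χ₁) (εX χ₂) ε hs1 hs2 hε (by simpa using hf1dvd) (hdeg1 χ₁ h1ne)
    hf1mod (by simpa using hf2dvd) (hdeg1 χ₂ h2ne) hf2mod (by simpa using hdvdθ) heq m1 m2 mθ
    hm17 hm14 hm1abs hm1ne hm27 hm24 hm2abs hm2ne hθrel hθnv

/-- **F5, first case**: `|N(P)| = 140`, `|C(P)| = 70` is impossible -/
theorem o50_val36 [Finite G] [IsSimpleGroup G] (hG : Nat.card G = 5040) (P : Sylow 7 G)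
    (hN : Nat.card ↥(Subgroup.normalizer ((P : Subgroup G) : Set G)) = 140)
    (hC : Nat.card ↥(Subgroup.centralizer ((P : Subgroup G) : Set G)) = 70) : False := by
  obtain ⟨h1, h2⟩ := o50_cv_counts hG P 140 70 hN hC
  obtain ⟨v, hvC, hv1, hv2⟩ := o50_cv_invol (Subgroup.centralizer ((P : Subgroup G) : Set G))
    (by rw [hC]; norm_num)
  exact o50_cv_core2 (o50_cv_perfect hG)
    (fun K hK => hK.eq_bot_or_eq_top) P (o50_cv_cardP hG P) (by omega) (by omega) v hvC hv1 hv2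

/-- **F5, second case**: `|N(P)| = 42`, `|C(P)| = 14` is impossible -/
theorem o50_val120 [Finite G] [IsSimpleGroup G] (hG : Nat.card G = 5040) (P : Sylow 7 G)
    (hN : Nat.card ↥(Subgroup.normalizer ((P : Subgroup G) : Set G)) = 42)
    (hC : Nat.card ↥(Subgroup.centralizer ((P : Subgroup G) : Set G)) = 14) : False := by
  obtain ⟨h1, h2⟩ := o50_cv_counts hG P 42 14 hN hC
  obtain ⟨v, hvC, hv1, hv2⟩ := o50_cv_invol (Subgroup.centralizer ((P : Subgroup G) : Set G))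
    (by rw [hC]; norm_num)
  exact o50_cv_core3 (o50_cv_perfect hG)
    (fun K hK => hK.eq_bot_or_eq_top) P (o50_cv_cardP hG P) (by omega) (by omega) v hvC hv1 hv2

/-- `o50_val36` under the name frozen in `notes/S0978_headers.lean.txt` -/
theorem o50_caseN36 {G : Type*} [Group G] [Finite G] [IsSimpleGroup G] (hG : Nat.card G = 5040)
    (P : Sylow 7 G)
    (hN : Nat.card ↥(Subgroup.normalizer ((P : Subgroup G) : Set G)) = 140)
    (hC : Nat.card ↥(Subgroup.centralizer ((P : Subgroup G) : Set G)) = 70) : False :=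
  o50_val36 hG P hN hC

/-- `o50_val120` under the name frozen in `notes/S0978_headers.lean.txt` -/
theorem o50_caseE3 {G : Type*} [Group G] [Finite G] [IsSimpleGroup G] (hG : Nat.card G = 5040)
    (P : Sylow 7 G)
    (hN : Nat.card ↥(Subgroup.normalizer ((P : Subgroup G) : Set G)) = 42)
    (hC : Nat.card ↥(Subgroup.centralizer ((P : Subgroup G) : Set G)) = 14) : False :=
  o50_val120 hG P hN hC

end Cfsg.Agent.O50
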