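import Mathlib
import Cfsg.Prelude.Def_Characters
import Cfsg.Prelude.Def_Blocks
import Cfsg.Agent.Helper6.CharBasic
import Cfsg.Agent.Helper6.Induced
import Cfsg.Agent.Helper6.Linear
import Cfsg.Agent.Helper6.OddReal
import Cfsg.Agent.Helper6.BlockPart

/-!
# S0978, piece F7a: restriction of a character to a dihedral subgroup of order 14
-/

set_option autoImplicit false

namespace Cfsg.Agent.O50

universe u

open Cfsg.Agent.Helper6
open scoped ComplexConjugate

theorem o50_dih_e_add {G : Type u} [Group G] (x : G) (hx : x ^ 7 = 1) (i j : ZMod 7) :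
    x ^ (i + j).val = x ^ i.val * x ^ j.val := by
  rw [ZMod.val_add, ← pow_eq_pow_mod _ hx, pow_add]

theorem o50_dih_e_sub {G : Type u} [Group G] (x : G) (hx : x ^ 7 = 1) (i j : ZMod 7) :
    x ^ (j - i).val = (x ^ i.val)⁻¹ * x ^ j.val := by
  have h := o50_dih_e_add x hx (j - i) i
  rw [sub_add_cancel, pow_mul_comm] at h
  exact eq_inv_mul_of_mul_eq h.symm

theorem o50_dih_conj {G : Type u} [Group G] (x t : G) (ht : t * t = 1)
    (hinv : t * x * t⁻¹ = x⁻¹) (k : ℕ) : t * x ^ k * t = (x ^ k)⁻¹ := by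
  have htinv : t⁻¹ = t := inv_eq_of_mul_eq_one_left ht
  have h1 : t * x ^ k * t⁻¹ = (x ^ k)⁻¹ := by rw [← conj_pow, hinv, inv_pow]
  rw [htinv] at h1
  exact h1

theorem o50_dih_swap {G : Type u} [Group G] (x t : G) (ht : t * t = 1)
    (hinv : t * x * t⁻¹ = x⁻¹) (k : ℕ) : x ^ k * t = t * (x ^ k)⁻¹ := by
  rw [← o50_dih_conj x t ht hinv k]
  calc x ^ k * t = (t * t) * x ^ k * t := by rw [ht, one_mul]
    _ = t * (t * x ^ k * t) := by group

/-- the map `DihedralGroup 7 → G` attached to `x`, `t` -/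
def o50_dihFun {G : Type u} [Group G] (x t : G) : DihedralGroup 7 → G
  | DihedralGroup.r i => x ^ i.val
  | DihedralGroup.sr i => t * x ^ i.val

theorem o50_dihFun_r {G : Type u} [Group G] (x t : G) (i : ZMod 7) :
    o50_dihFun x t (DihedralGroup.r i) = x ^ i.val := rfl

theorem o50_dihFun_sr {G : Type u} [Group G] (x t : G) (i : ZMod 7) :
    o50_dihFun x t (DihedralGroup.sr i) = t * x ^ i.val := rfl

theorem o50_dihFun_mul {G : Type u} [Group G] (x t : G) (hx : x ^ 7 = 1) (ht : t * t = 1)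
    (hinv : t * x * t⁻¹ = x⁻¹) (a b : DihedralGroup 7) :
    o50_dihFun x t (a * b) = o50_dihFun x t a * o50_dihFun x t b := by
  rcases a with i | i <;> rcases b with j | j
  · rw [DihedralGroup.r_mul_r, o50_dihFun_r, o50_dihFun_r, o50_dihFun_r]
    exact o50_dih_e_add x hx i j
  · rw [DihedralGroup.r_mul_sr, o50_dihFun_r, o50_dihFun_sr, o50_dihFun_sr,
      o50_dih_e_sub x hx i j, ← mul_assoc, ← mul_assoc, o50_dih_swap x t ht hinv]
  · rw [DihedralGroup.sr_mul_r, o50_dihFun_r, o50_dihFun_sr, o50_dihFun_sr,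
      o50_dih_e_add x hx i j, mul_assoc]
  · rw [DihedralGroup.sr_mul_sr, o50_dihFun_r, o50_dihFun_sr, o50_dihFun_sr,
      o50_dih_e_sub x hx i j]
    calc (x ^ i.val)⁻¹ * x ^ j.val = (t * x ^ i.val * t) * x ^ j.val := by
          rw [o50_dih_conj x t ht hinv]
      _ = t * x ^ i.val * (t * x ^ j.val) := by group

/-- the homomorphism `DihedralGroup 7 →* G` attached to `x`, `t` -/
def o50_dihHom {G : Type u} [Group G] (x t : G) (hx : x ^ 7 = 1) (ht : t * t = 1)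
    (hinv : t * x * t⁻¹ = x⁻¹) : DihedralGroup 7 →* G :=
  MonoidHom.mk' (o50_dihFun x t) (o50_dihFun_mul x t hx ht hinv)

/-- the sign map of the dihedral group -/
def o50_sgnFun : DihedralGroup 7 → ℂˣ
  | DihedralGroup.r _ => 1
  | DihedralGroup.sr _ => -1

/-- the sign character of the dihedral group -/
def o50_sgnHom : DihedralGroup 7 →* ℂˣ :=
  MonoidHom.mk' o50_sgnFun (by
    intro a b
    rcases a with i | i <;> rcases b with j | j
    · rw [DihedralGroup.r_mul_r]; simp [o50_sgnFun]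
    · rw [DihedralGroup.r_mul_sr]; simp [o50_sgnFun]
    · rw [DihedralGroup.sr_mul_r]; simp [o50_sgnFun]
    · rw [DihedralGroup.sr_mul_sr]; simp [o50_sgnFun])

theorem o50_dih_sum (F : DihedralGroup 7 → ℂ) :
    ∑ d, F d = ∑ i : ZMod 7, F (DihedralGroup.r i) + ∑ i : ZMod 7, F (DihedralGroup.sr i) := by
  rw [Fintype.sum_equiv DihedralGroup.equivSum F
    (fun s => F (DihedralGroup.equivSum.symm s))
    (fun d => by rw [Equiv.symm_apply_apply]), Fintype.sum_sum_type]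
  rfl

theorem o50_zmod_sum (g : ZMod 7 → ℂ) (A B : ℂ) (h0 : g 0 = A) (h1 : ∀ i, i ≠ 0 → g i = B) :
    ∑ i : ZMod 7, g i = A + 6 * B := by
  rw [← Finset.add_sum_erase Finset.univ g (Finset.mem_univ (0 : ZMod 7)), h0]
  congr 1
  rw [Finset.sum_congr rfl (fun i hi => h1 i (Finset.ne_of_mem_erase hi)), Finset.sum_const,
    Finset.card_erase_of_mem (Finset.mem_univ _), Finset.card_univ, ZMod.card]
  simp

theorem o50_sgnHom_r (i : ZMod 7) : ((o50_sgnHom (DihedralGroup.r i) : ℂˣ) : ℂ) = 1 := by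
  show ((1 : ℂˣ) : ℂ) = 1
  simp

theorem o50_sgnHom_sr (i : ZMod 7) : ((o50_sgnHom (DihedralGroup.sr i) : ℂˣ) : ℂ) = -1 := by
  show ((-1 : ℂˣ) : ℂ) = -1
  simp

/-- **F7a**: multiplicities of the trivial and the sign character in the restriction of a character
to a dihedral subgroup `⟨x, t⟩` of order dividing 14. -/
theorem o50_dih_mult {G : Type u} [Group G] [Finite G] {χ : G → ℂ} (hχ : Cfsg.IsCharacter G χ)
    (x t : G) (hx : x ^ 7 = 1) (ht : t * t = 1) (hinv : t * x * t⁻¹ = x⁻¹) (δ v : ℤ)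
    (hδ : ∀ i : ℕ, ¬ 7 ∣ i → χ (x ^ i) = (δ : ℂ)) (hv : χ t = (v : ℂ)) :
    ∃ α β : ℕ, 14 * (α : ℤ) = (Cfsg.charDegree χ : ℤ) + 6 * δ + 7 * v ∧
      14 * (β : ℤ) = (Cfsg.charDegree χ : ℤ) + 6 * δ - 7 * v := by
  classical
  obtain ⟨φ, hφdef⟩ : ∃ φ : DihedralGroup 7 →* G, φ = o50_dihHom x t hx ht hinv := ⟨_, rfl⟩
  have hf : Cfsg.IsCharacter (DihedralGroup 7) (fun d => χ (φ d)) := IsCharacter.comp_hom φ hχ
  have hφr : ∀ i, φ (DihedralGroup.r i) = x ^ i.val := fun i => by rw [hφdef]; rfl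
  have hφsr : ∀ i, φ (DihedralGroup.sr i) = t * x ^ i.val := fun i => by rw [hφdef]; rfl
  have hval0 : χ (φ (DihedralGroup.r 0)) = (Cfsg.charDegree χ : ℂ) := by
    rw [hφr, ZMod.val_zero, pow_zero, charDegree_cast_of_isCharacter hχ]
  have hvalr : ∀ i : ZMod 7, i ≠ 0 → χ (φ (DihedralGroup.r i)) = (δ : ℂ) := by
    intro i hi
    rw [hφr]
    apply hδ
    intro hdvd
    have hlt : i.val < 7 := ZMod.val_lt i
    have h0 : i.val = 0 := Nat.eq_zero_of_dvd_of_lt hdvd hlt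
    exact hi ((ZMod.val_eq_zero i).1 h0)
  have hvals : ∀ i : ZMod 7, χ (φ (DihedralGroup.sr i)) = (v : ℂ) := by
    intro i
    rw [hφsr, ← hv]
    have hcf := IsCharacter.isClassFunction hχ
    have hconj : x ^ (3 * i.val) * t * (x ^ (3 * i.val))⁻¹ = t * x ^ i.val := by
      rw [o50_dih_swap x t ht hinv, mul_assoc, ← mul_inv_rev, ← pow_add]
      congr 1
      apply inv_eq_of_mul_eq_one_left
      rw [← pow_add]
      have h7 : i.val + (3 * i.val + 3 * i.val) = 7 * i.val := by ring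
      rw [h7, pow_mul, hx, one_pow]
    rw [← hconj]
    exact hcf t (x ^ (3 * i.val))
  have hcard : (Nat.card (DihedralGroup 7) : ℂ) = 14 := by
    rw [DihedralGroup.nat_card]; norm_num
  obtain ⟨α, hα⟩ := classInner_irr_char_nat (isIrrCharacter_one (G := DihedralGroup 7)) hf
  obtain ⟨β, hβ⟩ := classInner_irr_char_nat (isIrrCharacter_of_hom o50_sgnHom) hf
  refine ⟨α, β, ?_, ?_⟩
  · unfold Cfsg.classInner at hα
    rw [hcard, o50_dih_sum,
      o50_zmod_sum (fun i => (1 : ℂ) * conj (χ (φ (DihedralGroup.r i)))) (Cfsg.charDegree χ : ℂ)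
        (δ : ℂ) (by rw [hval0]; simp) (fun i hi => by rw [hvalr i hi]; simp),
      o50_zmod_sum (fun i => (1 : ℂ) * conj (χ (φ (DihedralGroup.sr i)))) (v : ℂ) (v : ℂ)
        (by rw [hvals]; simp) (fun i _ => by rw [hvals]; simp)] at hα
    have h1 : ((Cfsg.charDegree χ : ℂ) + 6 * (δ : ℂ) + 7 * (v : ℂ)) = 14 * (α : ℂ) := by
      rw [← hα]; ring
    have h2 : ((Cfsg.charDegree χ : ℤ) + 6 * δ + 7 * v : ℤ) = 14 * (α : ℤ) := by
      exact_mod_cast h1
    exact h2.symm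
  · unfold Cfsg.classInner at hβ
    rw [hcard, o50_dih_sum,
      o50_zmod_sum (fun i => ((o50_sgnHom (DihedralGroup.r i) : ℂˣ) : ℂ) *
          conj (χ (φ (DihedralGroup.r i)))) (Cfsg.charDegree χ : ℂ)
        (δ : ℂ) (by rw [hval0, o50_sgnHom_r]; simp)
        (fun i hi => by rw [hvalr i hi, o50_sgnHom_r]; simp),
      o50_zmod_sum (fun i => ((o50_sgnHom (DihedralGroup.sr i) : ℂˣ) : ℂ) *
          conj (χ (φ (DihedralGroup.sr i)))) (-(v : ℂ)) (-(v : ℂ))
        (by rw [hvals, o50_sgnHom_sr]; simp) (fun i _ => by rw [hvals, o50_sgnHom_sr]; simp)] at hβ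
    have h1 : ((Cfsg.charDegree χ : ℂ) + 6 * (δ : ℂ) - 7 * (v : ℂ)) = 14 * (β : ℂ) := by
      rw [← hβ]; ring
    have h2 : ((Cfsg.charDegree χ : ℤ) + 6 * δ - 7 * v : ℤ) = 14 * (β : ℤ) := by
      exact_mod_cast h1
    exact h2.symm

end Cfsg.Agent.O50
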