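import Mathlib
import Cfsg.Prelude.Def_Characters
import Cfsg.Prelude.Def_Blocks
import Cfsg.Agent.BR.BlockEx
import Cfsg.Agent.BR.BlockC
import Cfsg.Agent.BR.Invol
import Cfsg.Agent.BR.RedB
import Cfsg.Agent.BR.RedB2
import Cfsg.Agent.BR.RedB3
import Cfsg.Agent.Helper6.IrrCount
import Cfsg.Agent.Helper2.BrTIH
import Cfsg.Agent.Helper2.SylowExact2
import Cfsg.Agent.Helper9.LargeExtra2
import Cfsg.Agent.O50.Det
import Cfsg.Agent.O50.Dih
import Cfsg.Agent.O50.ArithM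
import Cfsg.Agent.O50.Blk6

/-!
# S0978 (no simple group of order 5040), file F7 (helper1): the main case `N(P) = 7:6`

`G` simple of order `5040`, `P` a Sylow `7`-subgroup with `|N(P)| = 42`, `C(P) = P`.  The principal
`7`-block has seven characters, all rational on `P ∖ 1` (`br_blk_exists`); an involution `t` of
`N(P)` inverts `P`; the restriction to the dihedral group `P⟨t⟩` (`o50_dih_mult`), the determinant
(`o50_det_mod4`), the block relations at `1` and `t` and the count of pairs of conjugates of `t`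
with product `x ∈ P ∖ 1` (`br_inv_pairs_eq_sum`, `br_inv_pairs_le`) are contradictory
(`o50_main_arith`).  See `notes/S0978_helper1.md`, section 3c.
-/

set_option autoImplicit false
set_option linter.style.haveILetI false

namespace Cfsg.Agent.O50

open Cfsg Cfsg.Agent.Helper6 Cfsg.Agent.Helper2 Cfsg.Agent.BR Cfsg.Agent.D1
open scoped ComplexConjugate

universe u

set_option maxHeartbeats 3200000 in
/-- **F7**: the case `|N(P)| = 42`, `|C(P)| = 7` -/
theorem o50_main6 {G : Type u} [Group G] [Finite G] [IsSimpleGroup G] (hG : Nat.card G = 5040)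
    (P : Sylow 7 G)
    (hN : Nat.card ↥(Subgroup.normalizer ((P : Subgroup G) : Set G)) = 42)
    (hC : Nat.card ↥(Subgroup.centralizer ((P : Subgroup G) : Set G)) = 7) : False := by
  classical
  haveI : Fact (Nat.Prime 7) := ⟨by norm_num⟩
  haveI : Fintype G := Fintype.ofFinite G
  haveI : Finite (Cfsg.IrrCharacter G) := irr_finite
  haveI : Fintype (Cfsg.IrrCharacter G) := Fintype.ofFinite _
  have hperf : commutator G = ⊤ := BrTI.perfect_of_simple (by rw [hG]; norm_num)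
  have hP : Nat.card (P : Subgroup G) = 7 := by
    have := SylowExact.card_sylow_of_exact_pow (s := 7) (k := 1) (m := 720)
      (by rw [hG]; norm_num) (by norm_num) P
    simpa using this
  have hPC : (P : Subgroup G) ≤ Subgroup.centralizer ((P : Subgroup G) : Set G) :=
    d1_fin_le_centralizer (P : Subgroup G) hP
  have hCeq : Subgroup.centralizer ((P : Subgroup G) : Set G) = (P : Subgroup G) := by
    symm
    exact Subgroup.eq_of_le_of_card_ge hPC (by rw [hP, hC])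
  obtain ⟨X, Y, dl, ep, O, h⟩ := br_blk_exists 7 P hP (le_of_eq hCeq)
  haveI := br_blk_finite_P h
  haveI : Fintype ↥(P : Subgroup G) := Fintype.ofFinite _
  -- the index `|N : P| = 6` and `n_7 = 120`
  have hrel : (P : Subgroup G).relIndex (Subgroup.normalizer ((P : Subgroup G) : Set G)) = 6 := by
    have h2 := Subgroup.relIndex_mul_relIndex ⊥ (P : Subgroup G)
      (Subgroup.normalizer ((P : Subgroup G) : Set G)) bot_le Subgroup.le_normalizer
    rw [Subgroup.relIndex_bot_left, Subgroup.relIndex_bot_left, hP, hN] at h2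
    omega
  have hn7 : Nat.card (Sylow 7 G) = 120 := by
    have h0 : Nat.card (Sylow 7 G) =
        (Subgroup.normalizer ((P : Subgroup G) : Set G)).index :=
      Sylow.card_eq_index_normalizer P
    have h1 := Subgroup.card_mul_index (Subgroup.normalizer ((P : Subgroup G) : Set G))
    rw [← h0, hN, hG] at h1
    omega
  have hcX : Nat.card X = 6 := by
    have := h.card_X
    rwa [hrel] at this
  have hcY : Nat.card Y = 1 := by
    have := h.card_Y
    rw [hrel] at this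
    omega
  obtain ⟨ψ, hψ⟩ : ∃ ψ, ψ ∈ Y := by
    obtain ⟨-, ⟨⟨ψ, hψ⟩⟩⟩ := Nat.card_eq_one_iff_unique.mp hcY
    exact ⟨ψ, hψ⟩
  have hYs : ∀ ψ' ∈ Y, ψ' = ψ := by
    intro ψ' hψ'
    obtain ⟨hsub, -⟩ := Nat.card_eq_one_iff_unique.mp hcY
    exact congrArg Subtype.val (hsub.elim ⟨ψ', hψ'⟩ ⟨ψ, hψ⟩)
  -- a generator of `P`
  obtain ⟨x, hxP, hx1, hxo, hxgen, hxcent⟩ := br_redb_generator 7 (P : Subgroup G) hP
  have hx7 : x ^ 7 = 1 := by rw [← hxo]; exact pow_orderOf_eq_one x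
  have hP7 : ∀ y ∈ (P : Subgroup G), y ^ 7 = 1 := by
    intro y hy
    obtain ⟨k, hk⟩ := hxgen y hy
    rw [← hk, ← zpow_natCast, ← zpow_mul, mul_comm, zpow_mul, zpow_natCast, hx7, one_zpow]
  -- an involution of `N(P)`
  haveI : Fact (Nat.Prime 2) := ⟨Nat.prime_two⟩
  obtain ⟨t', ht'⟩ := exists_prime_orderOf_dvd_card'
    (G := ↥(Subgroup.normalizer ((P : Subgroup G) : Set G))) 2 (by rw [hN]; norm_num)
  obtain ⟨t, htdef⟩ : ∃ t : G, t = (t' : G) := ⟨_, rfl⟩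
  have hto : orderOf t = 2 := by rw [htdef, Subgroup.orderOf_coe]; exact ht'
  have htN : t ∈ Subgroup.normalizer ((P : Subgroup G) : Set G) := by rw [htdef]; exact t'.2
  have ht : t * t = 1 := by rw [← pow_two, ← hto]; exact pow_orderOf_eq_one t
  have hno7 : ∀ g : G, g ^ 7 = 1 → orderOf g ≠ 2 := by
    intro g hg h2
    have := orderOf_dvd_of_pow_eq_one hg
    rw [h2] at this
    norm_num at this
  have htP : t ∉ (P : Subgroup G) := fun hmem => hno7 t (hP7 t hmem) hto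
  have hfix : ∀ k ∈ (P : Subgroup G), t * k = k * t → k = 1 := by
    intro k hk hcomm
    by_contra hk1
    have hc := d1_sec_centralizer_singleton (P : Subgroup G) hP k hk hk1
    apply htP
    rw [← hCeq, ← hc, Subgroup.mem_centralizer_iff]
    intro z hz
    rw [Set.mem_singleton_iff] at hz
    rw [hz]
    exact hcomm.symm
  have hinv := Cfsg.Agent.Helper9.fpf_invol_inverts (P : Subgroup G) t ht htN hfix
  -- `t` and `1` are not conjugate to elements of `P ∖ 1`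
  have hnct : ∀ y : G, y ∈ (P : Subgroup G) → y ≠ 1 → ¬ IsConj y t := by
    intro y hy _ hconj
    obtain ⟨c, hc⟩ := isConj_iff.mp hconj
    apply hno7 t _ hto
    rw [← hc, conj_pow, hP7 y hy, mul_one, mul_inv_cancel]
  have hnc1 : ∀ y : G, y ∈ (P : Subgroup G) → y ≠ 1 → ¬ IsConj y 1 := by
    intro y _ hy1 hconj
    exact hy1 (isConj_one_left.mp hconj)
  -- degrees
  have hdeg1 : ∀ χ : Cfsg.IrrCharacter G, Cfsg.charDegree (χ : G → ℂ) = 1 → χ = trivIrr G := by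
    intro χ h1
    apply br_redb_eq_triv hperf
    rw [(br_redb_degree χ).2, h1, Nat.cast_one]
  have hf2 : ∀ χ : Cfsg.IrrCharacter G, χ ≠ trivIrr G → 2 ≤ Cfsg.charDegree (χ : G → ℂ) := by
    intro χ hne
    have h0 := (br_redb_degree χ).1
    by_contra hlt
    exact hne (hdeg1 χ (by omega))
  have hsumsq : ∑ χ : Cfsg.IrrCharacter G, Cfsg.charDegree (χ : G → ℂ) ^ 2 = 5040 := by
    have h1 := sum_sq_degrees (G := G)
    have h2 : ((∑ χ : Cfsg.IrrCharacter G, Cfsg.charDegree (χ : G → ℂ) ^ 2 : ℕ) : ℂ) =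
        ((Nat.card G : ℕ) : ℂ) := by
      push_cast
      rw [← h1]
      apply Finset.sum_congr rfl
      intro χ _
      rw [(br_redb_degree χ).2]
    rw [← hG]
    exact_mod_cast h2
  have hsqS : ∀ S : Finset (Cfsg.IrrCharacter G), trivIrr G ∉ S →
      ∑ χ ∈ S, Cfsg.charDegree (χ : G → ℂ) ^ 2 ≤ 5039 := by
    intro S hS
    have h1 : ∑ χ ∈ insert (trivIrr G) S, Cfsg.charDegree (χ : G → ℂ) ^ 2 ≤
        ∑ χ : Cfsg.IrrCharacter G, Cfsg.charDegree (χ : G → ℂ) ^ 2 :=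
      Finset.sum_le_sum_of_subset (Finset.subset_univ _)
    rw [Finset.sum_insert hS, hsumsq, br_redb_charDegree_triv] at h1
    omega
  have hsq : ∀ χ : Cfsg.IrrCharacter G, χ ≠ trivIrr G →
      Cfsg.charDegree (χ : G → ℂ) * Cfsg.charDegree (χ : G → ℂ) ≤ 5039 := by
    intro χ hne
    have h1 := hsqS {χ} (by rw [Finset.mem_singleton]; exact fun h => hne h.symm)
    rw [Finset.sum_singleton, pow_two] at h1
    exact h1
  -- the values at `t`
  have hchar : ∀ χ : Cfsg.IrrCharacter G, Cfsg.IsCharacter G (χ : G → ℂ) := fun χ =>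
    IsIrrCharacter.isCharacter χ.2
  obtain ⟨v, hv⟩ : ∃ v : Cfsg.IrrCharacter G → ℤ, ∀ χ : Cfsg.IrrCharacter G,
      (χ : G → ℂ) t = (v χ : ℂ) ∧ v χ ≡ (Cfsg.charDegree (χ : G → ℂ) : ℤ) [ZMOD 4] ∧
        |v χ| ≤ (Cfsg.charDegree (χ : G → ℂ) : ℤ) := by
    choose v hv using fun χ : Cfsg.IrrCharacter G => o50_det_mod4 hperf (hchar χ) t ht
    exact ⟨v, hv⟩
  -- the signs
  obtain ⟨δ', hδ'⟩ : ∃ δ' : Cfsg.IrrCharacter G → ℤ,
      δ' = fun χ => if χ ∈ Y then -ep else dl χ := ⟨_, rfl⟩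
  have hδY : ∀ χ ∈ Y, δ' χ = -ep := fun χ hχ => by rw [hδ']; exact if_pos hχ
  have hδX : ∀ χ ∈ X, δ' χ = dl χ := fun χ hχ => by
    rw [hδ']
    exact if_neg (fun hY => Set.disjoint_left.mp h.disj hχ hY)
  have hδs : ∀ χ, δ' χ = 1 ∨ δ' χ = -1 := by
    intro χ
    by_cases hχ : χ ∈ Y
    · rw [hδY χ hχ]
      rcases h.ep_sign with e | e <;> rw [e]
      · right; rfl
      · left; norm_num
    · have : δ' χ = dl χ := by rw [hδ']; exact if_neg hχ
      rw [this]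
      exact h.dl_sign χ
  have hval : ∀ χ : Cfsg.IrrCharacter G, (χ ∈ X ∨ χ ∈ Y) → ∀ y : G, y ∈ (P : Subgroup G) →
      y ≠ 1 → (χ : G → ℂ) y = (δ' χ : ℂ) := by
    intro χ hχ y hy hy1
    rcases hχ with hχ | hχ
    · rw [hδX χ hχ]
      exact h.val_X χ hχ y hy hy1
    · rw [hδY χ hχ, o50_blk_valY h hcY χ hχ y hy hy1]
      push_cast
      rfl
  have hdvd : ∀ χ : Cfsg.IrrCharacter G, (χ ∈ X ∨ χ ∈ Y) →
      Cfsg.charDegree (χ : G → ℂ) ∣ 720 := by
    intro χ hχ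
    rcases hχ with hχ | hχ
    · have := br_blk_dvd_X h χ hχ
      rwa [hrel, hn7] at this
    · have := br_blk_dvd_Y h χ hχ
      rwa [hrel, hn7] at this
  have hmod : ∀ χ : Cfsg.IrrCharacter G, (χ ∈ X ∨ χ ∈ Y) →
      (Cfsg.charDegree (χ : G → ℂ) : ℤ) ≡ δ' χ [ZMOD 7] := by
    intro χ hχ
    unfold Int.ModEq
    rcases hχ with hχ | hχ
    · rw [hδX χ hχ]
      rcases h.dl_sign χ with e | e
      · obtain ⟨u, hu, -⟩ := br_blk_deg_X_pos h χ hχ e
        rw [e, hu]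
        push_cast
        omega
      · obtain ⟨u, hu, -⟩ := br_blk_deg_X_neg h χ hχ e
        rw [e]
        have : (Cfsg.charDegree (χ : G → ℂ) : ℤ) + 1 = ((u : ℤ) + 1) * 7 := by exact_mod_cast hu
        omega
    · rw [hδY χ hχ]
      rcases h.ep_sign with e | e
      · obtain ⟨u, hu, -⟩ := br_blk_deg_Y_pos h χ hχ e
        rw [hrel] at hu
        rw [e, hu]
        push_cast
        omega
      · obtain ⟨u, hu, -⟩ := br_blk_deg_Y_neg h χ hχ e
        rw [hrel] at hu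
        rw [e]
        have : (Cfsg.charDegree (χ : G → ℂ) : ℤ) + 6 = (u : ℤ) * 7 := by exact_mod_cast hu
        omega
  -- the types
  obtain ⟨s, hs⟩ : ∃ s : Cfsg.IrrCharacter G → ℤ,
      s = fun χ => δ' χ * (Cfsg.charDegree (χ : G → ℂ) : ℤ) := ⟨_, rfl⟩
  obtain ⟨w, hwdef⟩ : ∃ w : Cfsg.IrrCharacter G → ℤ, w = fun χ => δ' χ * v χ := ⟨_, rfl⟩
  have hsdef : ∀ χ, s χ = δ' χ * (Cfsg.charDegree (χ : G → ℂ) : ℤ) := fun χ => by rw [hs]
  have hwd : ∀ χ, w χ = δ' χ * v χ := fun χ => by rw [hwdef]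
  have htype : ∀ χ : Cfsg.IrrCharacter G, (χ ∈ X ∨ χ ∈ Y) → χ ≠ trivIrr G →
      o50_IsType (s χ) (w χ) := by
    intro χ hχ hne
    obtain ⟨hvt, hv4, -⟩ := hv χ
    obtain ⟨α, β, hα, hβ⟩ := o50_dih_mult (hchar χ) x t hx7 ht (hinv x hxP) (δ' χ) (v χ)
      (fun i hi => hval χ hχ (x ^ i) (Subgroup.pow_mem _ hxP i)
        (fun h1 => hi (hxo ▸ orderOf_dvd_of_pow_eq_one h1))) hvt
    rw [hsdef, hwd]
    exact o50_type (Cfsg.charDegree (χ : G → ℂ)) (δ' χ) (v χ) (hδs χ) (hdvd χ hχ) (hf2 χ hne)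
      (hmod χ hχ) (hsq χ hne) hv4 α β hα hβ
  -- the finite sets
  obtain ⟨Xf, hXf⟩ : ∃ Xf : Finset (Cfsg.IrrCharacter G), Xf = (Set.toFinite X).toFinset :=
    ⟨_, rfl⟩
  have hmemXf : ∀ ξ, ξ ∈ Xf ↔ ξ ∈ X := fun ξ => by rw [hXf, Set.Finite.mem_toFinset]
  have hXfcard : Xf.card = 6 := by
    rw [← hcX, ← Nat.card_congr (Equiv.subtypeEquivRight hmemXf), Nat.card_eq_fintype_card,
      Fintype.card_coe]
  have hYf : (Set.toFinite Y).toFinset = {ψ} := by
    ext ξ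
    rw [Set.Finite.mem_toFinset, Finset.mem_singleton]
    exact ⟨fun hξ => hYs ξ hξ, fun hξ => hξ ▸ hψ⟩
  have htrivX : trivIrr G ∈ Xf := (hmemXf _).2 h.triv_mem
  have hψX : ψ ∉ X := fun hX => Set.disjoint_left.mp h.disj hX hψ
  have hψtriv : ψ ≠ trivIrr G := fun he => hψX (he ▸ h.triv_mem)
  obtain ⟨T, hTdef⟩ : ∃ T : Finset (Cfsg.IrrCharacter G),
      T = insert ψ (Xf.erase (trivIrr G)) := ⟨_, rfl⟩
  have hψT : ψ ∉ Xf.erase (trivIrr G) := fun hm =>
    hψX ((hmemXf ψ).1 (Finset.mem_of_mem_erase hm))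
  have hTcard : T.card = 6 := by
    rw [hTdef, Finset.card_insert_of_notMem hψT, Finset.card_erase_of_mem htrivX, hXfcard]
  have hTmem : ∀ χ ∈ T, (χ ∈ X ∨ χ ∈ Y) ∧ χ ≠ trivIrr G := by
    intro χ hχ
    rw [hTdef, Finset.mem_insert] at hχ
    rcases hχ with rfl | hχ
    · exact ⟨Or.inr hψ, hψtriv⟩
    · exact ⟨Or.inl ((hmemXf χ).1 (Finset.mem_of_mem_erase hχ)), Finset.ne_of_mem_erase hχ⟩
  have htrivT : trivIrr G ∉ T := fun hm => (hTmem _ hm).2 rfl
  have htypeT : ∀ χ ∈ T, o50_IsType (s χ) (w χ) := fun χ hχ =>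
    htype χ (hTmem χ hχ).1 (hTmem χ hχ).2
  -- the trivial character
  have hdltriv : dl (trivIrr G) = 1 := by
    have h1 := h.val_X (trivIrr G) h.triv_mem x hxP hx1
    have h2 : ((trivIrr G : Cfsg.IrrCharacter G) : G → ℂ) x = 1 := rfl
    rw [h2] at h1
    exact_mod_cast h1.symm
  have hvtriv : v (trivIrr G) = 1 := by
    have h1 := (hv (trivIrr G)).1
    have h2 : ((trivIrr G : Cfsg.IrrCharacter G) : G → ℂ) t = 1 := rfl
    rw [h2] at h1
    exact_mod_cast h1.symm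
  -- a general summation lemma
  have hsumT : ∀ a : Cfsg.IrrCharacter G → ℤ,
      ∑ χ ∈ Xf, a χ * dl χ = ep * a ψ → a (trivIrr G) = 1 →
      ∑ χ ∈ T, δ' χ * a χ = -1 := by
    intro a ha ha1
    rw [hTdef, Finset.sum_insert hψT, hδY ψ hψ]
    have h1 : ∑ χ ∈ Xf.erase (trivIrr G), δ' χ * a χ =
        ∑ χ ∈ Xf.erase (trivIrr G), a χ * dl χ := by
      apply Finset.sum_congr rfl
      intro χ hχ
      rw [hδX χ ((hmemXf χ).1 (Finset.mem_of_mem_erase hχ)), mul_comm]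
    rw [h1, Finset.sum_erase_eq_sub htrivX, ha, ha1, hdltriv]
    ring
  have hS1 : ∑ χ ∈ T, s χ = -1 := by
    rw [Finset.sum_congr rfl (fun χ _ => hsdef χ)]
    apply hsumT (fun χ => (Cfsg.charDegree (χ : G → ℂ) : ℤ))
    · rw [hXf]
      exact o50_blk_rel h 1 hnc1 (fun χ => (Cfsg.charDegree (χ : G → ℂ) : ℤ))
        (fun χ => by rw [(br_redb_degree χ).2]; norm_cast) ψ hψ
    · rw [br_redb_charDegree_triv]
      rfl
  have hS2 : ∑ χ ∈ T, w χ = -1 := by
    rw [Finset.sum_congr rfl (fun χ _ => hwd χ)]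
    apply hsumT v
    · rw [hXf]
      exact o50_blk_rel h t hnct v (fun χ => (hv χ).1) ψ hψ
    · exact hvtriv
  have hS3 : ∑ χ ∈ T, s χ * s χ ≤ 5039 := by
    have h1 := hsqS T htrivT
    have h2 : ∑ χ ∈ T, s χ * s χ =
        ((∑ χ ∈ T, Cfsg.charDegree (χ : G → ℂ) ^ 2 : ℕ) : ℤ) := by
      push_cast
      apply Finset.sum_congr rfl
      intro χ _
      rw [hsdef]
      rcases hδs χ with e | e <;> rw [e] <;> ring
    rw [h2]
    exact_mod_cast h1
  -- the pairs of conjugates of `t` with product `x`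
  have hN7 : br_inv_pairs t x ≤ 7 := by
    have h1 := br_inv_pairs_le t x ht
    rwa [hxcent, hC] at h1
  obtain ⟨c, hc⟩ : ∃ c : ℕ, c = Nat.card (Subgroup.centralizer ({t} : Set G)) := ⟨_, rfl⟩
  obtain ⟨k, hk⟩ : ∃ k : ℕ, k = (classFinset t).card := ⟨_, rfl⟩
  have hkc : (k : ℂ) * (c : ℂ) = 5040 := by
    have h1 := Subgroup.card_mul_index (Subgroup.centralizer ({t} : Set G))
    rw [← card_classFinset, ← hk, ← hc, hG] at h1
    have h2 : ((c * k : ℕ) : ℂ) = ((5040 : ℕ) : ℂ) := by rw [h1]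
    push_cast at h2
    linear_combination h2
  obtain ⟨q, hq⟩ : ∃ q : Cfsg.IrrCharacter G → ℚ,
      q = fun χ => (w χ : ℚ) * (w χ : ℚ) / (s χ : ℚ) := ⟨_, rfl⟩
  have hqd : ∀ χ, q χ = (w χ : ℚ) * (w χ : ℚ) / (s χ : ℚ) := fun χ => by rw [hq]
  obtain ⟨F, hF⟩ : ∃ F : Cfsg.IrrCharacter G → ℂ, F = fun χ : Cfsg.IrrCharacter G =>
      (χ : G → ℂ) t * (χ : G → ℂ) t * conj ((χ : G → ℂ) x) / (χ : G → ℂ) 1 := ⟨_, rfl⟩
  have hFd : ∀ χ, F χ =
      (χ : G → ℂ) t * (χ : G → ℂ) t * conj ((χ : G → ℂ) x) / (χ : G → ℂ) 1 := fun χ => by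
    rw [hF]
  have hFq : ∀ χ : Cfsg.IrrCharacter G, (χ ∈ X ∨ χ ∈ Y) → F χ = ((q χ : ℚ) : ℂ) := by
    intro χ hχ
    rw [hFd, hqd, (hv χ).1, hval χ hχ x hxP hx1, (br_redb_degree χ).2, hsdef, hwd, map_intCast]
    push_cast
    rcases hδs χ with e | e <;> rw [e] <;> push_cast <;> ring
  have hFtriv : F (trivIrr G) = 1 := by
    rw [hFd]
    have h2 : ∀ g : G, ((trivIrr G : Cfsg.IrrCharacter G) : G → ℂ) g = 1 := fun _ => rfl
    rw [h2, h2, h2, map_one]
    norm_num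
  have hsumF : ∑ χ : Cfsg.IrrCharacter G, F χ = ((1 + ∑ χ ∈ T, q χ : ℚ) : ℂ) := by
    have h2 := br_blk_sum_split h F (fun ζ hζX hζY => by
      rw [hFd, h.val_Z ζ hζX hζY x hxP hx1, map_zero, mul_zero, zero_div])
    rw [h2, ← hXf, hYf, Finset.sum_singleton, ← Finset.add_sum_erase Xf _ htrivX,
      hFtriv, hTdef, Finset.sum_insert hψT]
    push_cast
    rw [hFq ψ (Or.inr hψ), Finset.sum_congr rfl (fun χ hχ =>
      hFq χ (Or.inl ((hmemXf χ).1 (Finset.mem_of_mem_erase hχ))))]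
    ring
  have hpairs : (br_inv_pairs t x : ℂ) =
      (k : ℂ) * (k : ℂ) / 5040 * ((1 + ∑ χ ∈ T, q χ : ℚ) : ℂ) := by
    have h1 := br_inv_pairs_eq_sum t x
    rw [← hk, hG, ← Finset.sum_congr rfl (fun χ _ => hFd χ), hsumF] at h1
    rw [h1]
    norm_num
  have hK : ((br_inv_pairs t x : ℕ) : ℚ) * ((c : ℚ) * (c : ℚ)) =
      5040 * (1 + ∑ χ ∈ T, (w χ : ℚ) * (w χ : ℚ) / (s χ : ℚ)) := by
    rw [← Finset.sum_congr rfl (fun χ _ => hqd χ)]
    have h1 : ((((br_inv_pairs t x : ℕ) : ℚ) * ((c : ℚ) * (c : ℚ)) : ℚ) : ℂ) =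
        ((5040 * (1 + ∑ χ ∈ T, q χ) : ℚ) : ℂ) := by
      push_cast
      push_cast at hpairs
      rw [hpairs]
      linear_combination ((1 + ∑ χ ∈ T, (q χ : ℂ)) / 5040) * ((k : ℂ) * (c : ℂ) + 5040) * hkc
    exact_mod_cast h1
  exact o50_main_arith T s w hTcard htypeT hS1 hS2 hS3 (br_inv_pairs t x) c hN7 hK

end Cfsg.Agent.O50
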