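import Mathlib
import Cfsg.Agent.O50.Arith
import Cfsg.Agent.O50.CaseE2
import Cfsg.Agent.S4700
import Cfsg.Agent.BR.RedK
import Cfsg.Agent.Helper2.BrTIH

/-!
# S0978, file F4a (helper4): a simple group of order 5040 does not have 8 or 15 Sylow 7-subgroups

`n_7 = 1 + n · 7` with `n = 1, 2`: the three alternatives of S4700 all fail.
-/

set_option autoImplicit false
set_option linter.style.haveILetI false

namespace Cfsg.Agent.O50

open Cfsg Cfsg.Agent.Helper2

theorem o50_n7_small {G : Type*} [Group G] [Finite G] [IsSimpleGroup G] (hG : Nat.card G = 5040)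
    (h : Nat.card (Sylow 7 G) = 8 ∨ Nat.card (Sylow 7 G) = 15) : False := by
  classical
  haveI : Fact (Nat.Prime 7) := ⟨by norm_num⟩
  have hperf : commutator G = ⊤ := BrTI.perfect_of_simple (by rw [hG]; norm_num)
  let P : Sylow 7 G := default
  have hP : Nat.card (P : Subgroup G) = 7 := o50_e2_cardP hG P
  obtain ⟨n, hn12, hn⟩ : ∃ n : ℕ, (n = 1 ∨ n = 2) ∧ Nat.card (Sylow 7 G) = 1 + n * 7 := by
    rcases h with h | h
    · exact ⟨1, Or.inl rfl, by rw [h]⟩
    · exact ⟨2, Or.inr rfl, by rw [h]⟩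
  rcases Cfsg.Agent.S4700.result hperf 7 P hP n hn with
    ⟨F, _, _, hF, -, ⟨e⟩⟩ | ⟨m, F, _, _, -, hp, -, -⟩ | ⟨hh, u, hh0, hu0, heq⟩
  · -- `G ⧸ O_{7'}(G) ≅ PSL(2,7)` of order 168
    have hc := Cfsg.Agent.BR.br_redK_card_psl_odd (F := F) hF (by decide)
    have h2 : Nat.card (G ⧸ Cfsg.pPrimeCore 7 G) =
        Nat.card (Matrix.ProjectiveSpecialLinearGroup (Fin 2) F) := Nat.card_congr e.toEquiv
    have h168 : Nat.card (G ⧸ Cfsg.pPrimeCore 7 G) = 168 := by
      rw [h2]
      have h336 : 7 * (7 ^ 2 - 1) = 336 := by norm_num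
      rw [h336] at hc
      omega
    have hidx : (Cfsg.pPrimeCore 7 G).index = 168 := h168
    rcases (Subgroup.Normal.eq_bot_or_eq_top
      (inferInstance : (Cfsg.pPrimeCore 7 G).Normal)) with hb | ht
    · rw [hb, Subgroup.index_bot, hG] at hidx
      omega
    · rw [ht, Subgroup.index_top] at hidx
      omega
  · -- `7 = 2 ^ m + 1`
    have h2 : 2 ^ m = 6 := by omega
    have hm3 : m < 3 := by
      by_contra hcon
      have : 2 ^ 3 ≤ 2 ^ m := Nat.pow_le_pow_right (by norm_num) (by omega)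
      omega
    interval_cases m <;> omega
  · exact o50_no_fform n hh u hn12 hh0 hu0 heq

end Cfsg.Agent.O50
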